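import Groth.Agent.AlgSpFieldLib.Rational
import Groth.Agent.MonoPtLib.LocalRep
import Groth.Agent.ConsLib.FGSystem
import Mathlib.RingTheory.Jacobson.Ring
import Mathlib.FieldTheory.IsAlgClosed.AlgebraicClosure

/-!
# Schematic base changes descend to the algebraic closure and to finite separable levels
-/

set_option autoImplicit false
set_option linter.style.haveILetI false
set_option backward.isDefEq.respectTransparency false
set_option backward.isDefEq.respectTransparency.types false

set_option maxHeartbeats 400000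
set_option synthInstance.maxHeartbeats 100000

universe u

open CategoryTheory CategoryTheory.Limits AlgebraicGeometry TopologicalSpace Opposite Topology
open AlgSp AlgSpLib Groth.Agent.MonoPtLib

noncomputable section

namespace AlgSpFieldLib

variable {k : Type u} [Field k] {K L : Type u} [Field K] [Algebra k K] [Field L] [Algebra k L]

theorem isPullback_prod_left_map {C : Type*} [Category C] [HasBinaryProducts C] {X X' Y : C} (g : X' ⟶ X) :
    IsPullback (prod.fst : X' ⨯ Y ⟶ X') (prod.map g (𝟙 Y)) g (prod.fst : X ⨯ Y ⟶ X) := by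
  refine IsPullback.of_isLimit' ⟨by simp⟩ (PullbackCone.IsLimit.mk _
    (fun σ => prod.lift σ.fst (σ.snd ≫ prod.snd)) (fun σ => by simp) (fun σ => ?_) fun σ m h1 h2 => ?_)
  · apply Limits.prod.hom_ext
    · simpa using σ.condition
    · simp
  · apply Limits.prod.hom_ext
    · rw [← h1]; simp
    · rw [← h2]; simp

/-- A space with a morphism with affine fibres to a scheme is a scheme. -/
theorem isRepSh_of_repWith {S : Scheme.{u}} {F G : Sp S} {P : MorphismProperty Scheme.{u}}
    {π : F ⟶ G} (hπ : RepWith P π) (hG : IsRepSh G) : IsRepSh F := by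
  obtain ⟨W, ⟨e⟩⟩ := hG
  haveI : IsIso (hπ.rep.fst e.hom) :=
    (hπ.rep.isPullback e.hom).isIso_fst_of_isIso
  exact ⟨_, ⟨asIso (hπ.rep.fst e.hom)⟩⟩

/-- A space covered by open subschemes is a scheme. -/
theorem isRepSh_of_points_cover {S : Scheme.{u}} {G : Sp S} {ι : Type u} {W : ι → Over S}
    (f : ∀ i, (yon S).obj (W i) ⟶ G) (hf : ∀ i, RepWith @IsOpenImmersion (f i))
    (hcov : ∀ z : Points G, ∃ i, z ∈ Set.range (Points.map (f i))) : IsRepSh G := by
  refine AlgSpLib.isRepSh_of_openCover f hf fun T b t => ?_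
  obtain ⟨i, hi⟩ := hcov (Points.map b (Points.schemeHomeo T t))
  refine ⟨i, ?_⟩
  have h' : Points.schemeHomeo T t ∈
      Set.range (Points.map ((yon S).map ((hf i).rep.snd b))) := by
    rw [AlgSpLib.range_map_of_isPullback ((hf i).rep.isPullback b), Set.mem_preimage]
    exact hi
  obtain ⟨z, hz⟩ := h'
  obtain ⟨z, rfl⟩ := (Points.schemeHomeo _).surjective z
  exact ⟨z, (Points.schemeHomeo T).injective ((Points.map_yon_map_apply _ z).symm.trans hz)⟩

theorem repWith_bcMap_affine (X : Sp (B k)) {V V' : Over (B k)} (g : V ⟶ V') [IsAffine V.left] [IsAffine V'.left] :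
    RepWith @IsAffineHom (prod.map (𝟙 X) ((yon (B k)).map g)) :=
  AlgSpLib.repWith_of_isPullback (isPullback_snd_map ((yon (B k)).map g)).flip
    ((repWith_yon_map_iff _ g).2 (isAffineHom_of_isAffine g.left))

instance isAffine_ext (K : Type u) [Field K] [Algebra k K] : IsAffine (Ext k K).left :=
  inferInstanceAs (IsAffine (Spec (CommRingCat.of K)))

theorem isRepSh_bc_of_hom {X : Sp (B k)} (φ : K →ₐ[k] L) (h : IsRepSh (X ⨯ (yon (B k)).obj (Ext k K))) :
    IsRepSh (X ⨯ (yon (B k)).obj (Ext k L)) :=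
  isRepSh_of_repWith (repWith_bcMap_affine X (extHom φ)) h

/-- For a qcqs space, a schematic base change to a field over an algebraically closed field descends. -/
theorem isRepSh_descend_algClosed_qc [IsAlgClosed L] [Algebra L K] [IsScalarTower k L K] {X : Sp (B k)}
    (hX : IsAlgSpace X) (hqc : IsQuasiCompactSp X) (hqs : IsQuasiSeparatedSp X)
    (h : IsRepSh (X ⨯ (yon (B k)).obj (Ext k K))) : IsRepSh (X ⨯ (yon (B k)).obj (Ext k L)) := by
  classical
  let J := (ConsLib.FGSub L K)ᵒᵖ
  let sys := ConsLib.fgSys L K (Iso.refl (Spec (CommRingCat.of L)))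
  let N : J ⥤ Over (B k) :=
    { obj := fun j => Over.mk (Spec.map (CommRingCat.ofHom (algebraMap k j.unop.1)))
      map := fun {i j} φ => Over.homMk (sys.D.map φ) (by
        show Spec.map ((ConsLib.fgDiag L K).map φ.unop) ≫ Spec.map _ = Spec.map _
        rw [← Spec.map_comp]
        rfl)
      map_id := fun j => Over.OverMorphism.ext (sys.D.map_id j)
      map_comp := fun φ ψ => Over.OverMorphism.ext (sys.D.map_comp φ ψ) }
  let cN : Cone N :=
    { pt := Ext k K
      π :=
        { app := fun j => Over.homMk (sys.c.π.app j) (by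
            show Spec.map (CommRingCat.ofHom j.unop.1.val.toRingHom) ≫ Spec.map _ = Spec.map _
            rw [← Spec.map_comp, ← CommRingCat.ofHom_comp]
            rfl)
          naturality := fun i j φ => Over.OverMorphism.ext (sys.c.π.naturality φ) } }
  let co : ∀ s : Cone N, Cone sys.D := fun s =>
    { pt := s.pt.left
      π := { app := fun j => (s.π.app j).left
             naturality := fun i j φ => by
              show 𝟙 _ ≫ (s.π.app j).left = (s.π.app i).left ≫ sys.D.map φ
              rw [Category.id_comp]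
              exact congrArg CommaMorphism.left (s.w φ).symm } }
  let j₀ : J := op ⟨⊥, Subalgebra.fg_bot⟩
  have hcN : IsLimit cN :=
    { lift := fun s => Over.homMk (sys.hc.lift (co s)) (by
        exact (congrArg (fun m : cN.pt.left ⟶ B k => sys.hc.lift (co s) ≫ m) (Over.w (cN.π.app j₀)).symm).trans
          ((Category.assoc _ _ _).symm.trans ((congrArg (fun m : s.pt.left ⟶ (N.obj j₀).left => m ≫ (N.obj j₀).hom)
            (sys.hc.fac (co s) j₀)).trans (Over.w (s.π.app j₀)))))
      fac := fun s j => Over.OverMorphism.ext (sys.hc.fac (co s) j)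
      uniq := fun s m hm => Over.OverMorphism.ext (sys.hc.uniq (co s) m.left fun j =>
        congrArg CommaMorphism.left (hm j)) }
  let hY : IsTerminal ((yon (B k)).obj (Over.mk (𝟙 (B k)))) :=
    (Over.mkIdTerminal (X := B k)).isTerminalObj (yon (B k)) _
  let t : N ⋙ yon (B k) ⟶ (Functor.const J).obj ((yon (B k)).obj (Over.mk (𝟙 (B k)))) :=
    { app := fun j => (yon (B k)).map (Over.homMk (N.obj j).hom (Category.comp_id _))
      naturality := fun i j φ => hY.hom_ext _ _ }
  obtain ⟨P, cP, hcP, v, r, f, s, sqk, sqlim, sqtr, -, -, -⟩ :=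
    exists_pullback_system t (isLimitOfPreserves (yon (B k)) hcN) (hY.from _) (fun j => hY.hom_ext _ _) (hY.from X)
  haveI : ∀ j : J, IsAffine (N.obj j).left := fun j => inferInstanceAs (IsAffine (Spec (CommRingCat.of j.unop.1)))
  haveI : IsAffine (Over.mk (𝟙 (B k))).left := inferInstanceAs (IsAffine (Spec (CommRingCat.of k)))
  have hr : ∀ j, RepWith @IsAffineHom (r j) := fun j =>
    AlgSpLib.repWith_of_isPullback (sqk j) ((repWith_yon_map_iff _ _).2 (isAffineHom_of_isAffine _))
  have hPA : ∀ j, IsAlgSpace (P.obj j) := fun j => AlgSpLib.isAlgSpace_of_representable hX (r j) (hr j).rep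
  obtain ⟨T, ⟨e⟩⟩ := h
  let p : cP.pt ≅ X ⨯ (yon (B k)).obj (Ext k K) :=
    sqlim.flip.isoIsPullback _ _ (IsPullback.of_is_product' (prodIsProd X ((yon (B k)).obj (Ext k K))) hY)
  obtain ⟨j, W, ⟨eW⟩⟩ := exists_representable_stage P hPA
    (fun i j φ => AlgSpLib.isAffineMor_iff.2 (AlgSpLib.repWith_of_isPullback (sqtr φ)
      ((repWith_yon_map_iff _ _).2 (isAffineHom_of_isAffine (N.map φ).left))))
    (fun j => AlgSpLib.isQuasiCompactSp_of_mor hX
      (AlgSpLib.isQuasiCompactMor_of_repWith (hPA j) hX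
        (AlgSpLib.repWith_mono (fun _ _ g (_ : IsAffineHom g) => (inferInstance : QuasiCompact g)) (hr j))) hqc)
    (fun j => AlgSpLib.isQuasiSeparatedSp_of_mor (AlgSpLib.isQuasiSeparatedMor_of_isSeparatedMor
      (AlgSpLib.isSeparatedMor_of_repWith
        (AlgSpLib.repWith_mono (fun _ _ g (_ : IsAffineHom g) => (inferInstance : IsSeparated g)) (hr j)))) hqs)
    cP hcP T (e ≪≫ p.symm)
  -- a rational point of the stage
  obtain ⟨σ⟩ : Nonempty (j.unop.1 →ₐ[L] L) := by
    haveI : Algebra.FiniteType L j.unop.1 := ⟨(Subalgebra.fg_top _).mpr j.unop.2⟩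
    obtain ⟨m, hm⟩ := Ideal.exists_maximal j.unop.1
    letI := Ideal.Quotient.field m
    haveI : Algebra.FiniteType L (j.unop.1 ⧸ m) :=
      Algebra.FiniteType.of_surjective (Ideal.Quotient.mkₐ L m) (Ideal.Quotient.mkₐ_surjective L m)
    haveI : Module.Finite L (j.unop.1 ⧸ m) := finite_of_finite_type_of_isJacobsonRing L (j.unop.1 ⧸ m)
    haveI : Algebra.IsAlgebraic L (j.unop.1 ⧸ m) := Algebra.IsAlgebraic.of_finite L _
    exact ⟨(IsAlgClosed.lift : (j.unop.1 ⧸ m) →ₐ[L] L).comp (Ideal.Quotient.mkₐ L m)⟩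
  let g : Ext k L ⟶ N.obj j := Over.homMk (Spec.map (CommRingCat.ofHom σ.toRingHom)) (by
    show Spec.map _ ≫ Spec.map _ = Spec.map _
    rw [← Spec.map_comp, ← CommRingCat.ofHom_comp]
    congr 2
    exact (σ.restrictScalars k).comp_algebraMap)
  let tj : (yon (B k)).obj (N.obj j) ⟶ (yon (B k)).obj (Over.mk (𝟙 (B k))) := t.app j
  have sq' : IsPullback (v j) (r j) tj (hY.from X) := sqk j
  rw [show tj = hY.from _ from hY.hom_ext _ _] at sq'
  let pj : P.obj j ≅ X ⨯ (yon (B k)).obj (N.obj j) :=
    sq'.flip.isoIsPullback _ _ (IsPullback.of_is_product' (prodIsProd X ((yon (B k)).obj (N.obj j))) hY)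
  exact isRepSh_of_repWith (repWith_bcMap_affine X g) ⟨W, ⟨eW ≪≫ pj⟩⟩

/-- A schematic base change to a field over an algebraically closed field descends. -/
theorem isRepSh_descend_algClosed [IsAlgClosed L] [Algebra L K] [IsScalarTower k L K] {X : Sp (B k)}
    (hX : IsAlgSpace X) (hqs : IsQuasiSeparatedSp X) (h : IsRepSh (X ⨯ (yon (B k)).obj (Ext k K))) :
    IsRepSh (X ⨯ (yon (B k)).obj (Ext k L)) := by
  classical
  obtain ⟨U, a, ha, has⟩ := hX.atlas
  choose V hV hVx hVU using fun x : U.left =>
    exists_isAffineOpen_mem_and_subset (X := U.left) (U := ⊤) (x := x) trivial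
  let Ω : U.left → Set (Points X) := fun x => Points.ofPt a '' (V x : Set U.left)
  have hΩ : ∀ x, IsOpen (Ω x) := fun x => AlgSpLib.isOpenMap_ofPt ha _ (V x).2
  have key : ∀ x, IsRepSh (openSub X (Ω x) ⨯ (yon (B k)).obj (Ext k L)) := fun x => by
    have hι := AlgSpLib.repWith_openSubι X (hΩ x)
    let ι := AlgSpLib.openSubι X (Ω x)
    have hA := AlgSpLib.isAlgSpace_openSub hX (hΩ x)
    haveI : Mono ι := AlgSpLib.mono_of_openImmersion hι
    have hemb : Topology.IsOpenEmbedding (Points.map ι) :=
      Topology.IsOpenEmbedding.of_continuous_injective_isOpenMap (Points.continuous_map ι)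
        (points_map_injective_of_mono hA hX ι)
        (AlgSpLib.isOpenMap_map_of_isEtaleMor hA (AlgSpLib.isEtaleMor_of_openImmersion hι))
    have hqc : IsQuasiCompactSp (openSub X (Ω x)) := by
      refine AlgSpLib.isQuasiCompactSp_of_compactSpace hA ⟨?_⟩
      rw [hemb.isInducing.isCompact_iff, Set.image_univ, AlgSpLib.range_openSubι]
      exact (hV x).isCompact.image (Points.continuous_ofPt a)
    refine isRepSh_descend_algClosed_qc (K := K) hA hqc
      (AlgSpLib.isQuasiSeparatedSp_of_mor (isQuasiSeparatedMor_of_mono ι) hqs) ?_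
    exact isRepSh_of_repWith (P := @IsOpenImmersion)
      (AlgSpLib.repWith_of_isPullback (isPullback_prod_left_map ι) hι) h
  choose W e using fun x => (key x)
  let f : ∀ x, (yon (B k)).obj (W x) ⟶ X ⨯ (yon (B k)).obj (Ext k L) := fun x =>
    (e x).some.hom ≫ prod.map (AlgSpLib.openSubι X (Ω x)) (𝟙 _)
  refine isRepSh_of_points_cover f (fun x => AlgSpLib.repWith_comp (AlgSpLib.repWith_of_isIso _)
    (AlgSpLib.repWith_of_isPullback (isPullback_prod_left_map (AlgSpLib.openSubι X (Ω x)))
      (AlgSpLib.repWith_openSubι X (hΩ x)))) fun z => ?_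
  obtain ⟨u, hu⟩ := AlgSpLib.surjective_ofPt has (Points.map prod.fst z)
  refine ⟨u, ?_⟩
  have : z ∈ Set.range (Points.map (prod.map (AlgSpLib.openSubι X (Ω u)) (𝟙 ((yon (B k)).obj (Ext k L))))) := by
    rw [AlgSpLib.range_map_of_isPullback (isPullback_prod_left_map (AlgSpLib.openSubι X (Ω u))),
      Set.mem_preimage, AlgSpLib.range_openSubι]
    exact ⟨u, hVx u, hu⟩
  obtain ⟨y, hy⟩ := this
  exact ⟨Points.map (e u).some.inv y, by
    rw [← Points.map_comp, Iso.inv_hom_id_assoc, hy]⟩

/-- Descent to a level saturating an affine cover. -/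
theorem isRepSh_descend_level {X : Sp (B k)} (hX : IsAlgSpace X) (φ : L →ₐ[k] K) {T : Over (B k)}
    (e : (yon (B k)).obj T ≅ X ⨯ (yon (B k)).obj (Ext k K))
    (hcov : ∀ w : T.left, ∃ A : T.left.Opens, IsAffineOpen A ∧ w ∈ A ∧
      bcMap (extHom φ) ⁻¹' (bcMap (extHom φ) '' (Points.ofPt e.hom '' (A : Set T.left))) =
        Points.ofPt e.hom '' (A : Set T.left)) :
    IsRepSh (X ⨯ (yon (B k)).obj (Ext k L)) := by
  choose A hA hwA hsat using hcov
  have key : ∀ w, ∃ (W : Over (B k)) (j : (yon (B k)).obj W ⟶ X ⨯ (yon (B k)).obj (Ext k L)),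
      RepWith @IsOpenImmersion j ∧ bcMap (extHom φ) (Points.ofPt e.hom w) ∈ Set.range (Points.map j) := fun w => by
    let O : Over (B k) := Over.mk ((A w).ι ≫ T.hom)
    haveI : IsAffine O.left := hA w
    let o : O ⟶ T := Over.homMk (A w).ι rfl
    let j₁ := (yon (B k)).map o ≫ e.hom
    have hj : RepWith @IsOpenImmersion j₁ := MorphismProperty.RespectsIso.postcomp _ _ _
      ((repWith_yon_map_iff (@IsOpenImmersion : MorphismProperty Scheme.{u}) o).2 (inferInstanceAs (IsOpenImmersion (A w).ι)))
    have hr : Set.range (Points.ofPt j₁) = Points.ofPt e.hom '' (A w : Set T.left) := by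
      rw [ofPt_yon_comp', Set.range_comp]
      exact congrArg (Set.image (Points.ofPt e.hom)) (Scheme.Opens.range_ι (A w))
    obtain ⟨W, j, -, hjo, hjr⟩ := exists_affine_descend hX φ hj (by rw [hr]; exact hsat w)
    refine ⟨W, j, hjo, ?_⟩
    rw [← AlgSpLib.range_ofPt, hjr, hr]
    exact ⟨_, ⟨w, hwA w, rfl⟩, rfl⟩
  choose W j hj hjw using key
  refine isRepSh_of_points_cover j hj fun z => ?_
  obtain ⟨z', rfl⟩ := surjective_bc (extHom φ) z
  have he : Function.Surjective (Points.ofPt e.hom) :=
    surjective_ofPt (MorphismProperty.RespectsIso.postcomp (P := RepWith (@Surjective : MorphismProperty Scheme.{u}))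
      e.hom (𝟙 _) (repWith_id _ T))
  obtain ⟨w, rfl⟩ := he z'
  exact ⟨w, hjw w⟩

/-- A schematic base change to an algebraic extension comes from a finite separable one. -/
theorem exists_finite_separable_level [Algebra.IsAlgebraic k K] {X : Sp (B k)} (hX : IsAlgSpace X)
    (hqc : IsQuasiCompactSp X) (h : IsRepSh (X ⨯ (yon (B k)).obj (Ext k K))) :
    ∃ E : IntermediateField k K, Module.Finite k E ∧ Algebra.IsSeparable k E ∧
      IsRepSh (X ⨯ (yon (B k)).obj (Ext k E)) := by
  classical
  obtain ⟨T, ⟨e⟩⟩ := h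
  choose A hA hwA _hle using fun w : T.left =>
    exists_isAffineOpen_mem_and_subset (X := T.left) (U := ⊤) (x := w) trivial
  have he : RepWith @IsOpenImmersion e.hom := AlgSpLib.repWith_of_isIso e.hom
  have heo : IsOpenMap (Points.ofPt e.hom) :=
    isOpenMap_ofPt (repWith_mono (fun _ _ f (h : IsOpenImmersion f) => (inferInstance : Etale f)) he)
  haveI : CompactSpace T.left := by
    haveI : IsAffine (Over.mk (𝟙 (B k))).left := inferInstanceAs (IsAffine (Spec (CommRingCat.of k)))
    have hfst : RepWith @QuasiCompact (prod.fst : X ⨯ (yon (B k)).obj (Ext k K) ⟶ X) := by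
      refine repWith_of_isPullback (isPullback_fst_terminal X K).flip ((repWith_yon_map_iff _ _).2 ?_)
      exact inferInstanceAs (QuasiCompact (Spec.map (CommRingCat.ofHom (algebraMap k K))))
    have hP : IsAlgSpace (X ⨯ (yon (B k)).obj (Ext k K)) :=
      isAlgSpace_of_representable hX prod.fst (representable_fst X (Ext k K))
    haveI := AlgSpLib.compactSpace_points_of_isQuasiCompactSp
      (AlgSpLib.isQuasiCompactSp_source hX (AlgSpLib.isQuasiCompactMor_of_repWith hP hX hfst) hqc)
    let h' : ↥T.left ≃ₜ Points (X ⨯ (yon (B k)).obj (Ext k K)) :=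
      (Points.schemeHomeo T).trans
        { toFun := Points.map e.hom
          invFun := Points.map e.inv
          left_inv := fun z => by rw [← Points.map_comp, e.hom_inv_id, Points.map_id]
          right_inv := fun z => by rw [← Points.map_comp, e.inv_hom_id, Points.map_id]
          continuous_toFun := Points.continuous_map _
          continuous_invFun := Points.continuous_map _ }
    exact h'.symm.compactSpace
  choose S hS using fun w : T.left => exists_level (K := K) hX (V := Points.ofPt e.hom '' (A w : Set T.left))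
    (heo _ (A w).2) ((hA w).isCompact.image (Points.continuous_ofPt e.hom))
  obtain ⟨t, ht⟩ := isCompact_univ.elim_finite_subcover (fun w : T.left => (A w : Set T.left))
    (fun w => (A w).2) (fun w _ => Set.mem_iUnion.2 ⟨w, hwA w⟩)
  let S₀ := t.biUnion S
  let L₀ : IntermediateField k K := ConnBC.lev (k := k) K S₀
  haveI : FiniteDimensional k L₀ :=
    IntermediateField.finiteDimensional_adjoin fun x _ => Algebra.IsIntegral.isIntegral x
  have hL₀ : IsRepSh (X ⨯ (yon (B k)).obj (Ext k L₀)) := isRepSh_descend_level hX L₀.val e fun w => by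
    obtain ⟨v, hvt, hwv⟩ := Set.mem_iUnion₂.1 (ht (Set.mem_univ w))
    refine ⟨A v, hA v, hwv, Set.Subset.antisymm ?_ (Set.subset_preimage_image _ _)⟩
    rintro z' ⟨z, hz, hzz⟩
    rw [← hS v]
    have hle : ConnBC.lev (k := k) K (S v) ≤ L₀ :=
      IntermediateField.adjoin.mono k _ _ (Finset.coe_subset.2 (Finset.subset_biUnion_of_mem S hvt))
    refine ⟨z, hz, ?_⟩
    rw [extHom_inclusion hle, ← bcMap_comp, ← bcMap_comp, hzz]
  let Ls : IntermediateField k L₀ := separableClosure k L₀
  refine ⟨IntermediateField.lift Ls, ?_, ?_, ?_⟩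
  · exact Module.Finite.equiv (IntermediateField.liftAlgEquiv Ls).toLinearEquiv
  · exact AlgEquiv.Algebra.isSeparable (IntermediateField.liftAlgEquiv Ls)
  refine isRepSh_bc_of_hom (IntermediateField.liftAlgEquiv Ls).toAlgHom ?_
  obtain ⟨T₁, ⟨e₁⟩⟩ := hL₀
  haveI : IsPurelyInseparable Ls L₀ := separableClosure.isPurelyInseparable k L₀
  refine isRepSh_descend_level hX (IsScalarTower.toAlgHom k Ls L₀) e₁ fun w => ?_
  obtain ⟨A₁, hA₁, hw₁, -⟩ := exists_isAffineOpen_mem_and_subset (X := T₁.left) (U := ⊤) (x := w) trivial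
  refine ⟨A₁, hA₁, hw₁, preimage_image_of_stable hX fun σ z hz => ?_⟩
  haveI : Subsingleton (L₀ →ₐ[Ls] L₀) := inferInstance
  rw [Subsingleton.elim (σ : L₀ →ₐ[Ls] L₀) (AlgHom.id Ls L₀),
    show (AlgHom.id Ls L₀).restrictScalars k = AlgHom.id k L₀ from rfl,
    show extHom (AlgHom.id k L₀) = 𝟙 (Ext k L₀) from Over.OverMorphism.ext (Spec.map_id _), bcMap,
    CategoryTheory.Functor.map_id, prod.map_id_id, Points.map_id]
  exact hz

end AlgSpFieldLib
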