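import Groth.Agent.AlgSpLib.Points
import Groth.Agent.AlgSpLib.Basic
import Groth.Agent.AlgSpLib.Sep
import Groth.Agent.AlgSpLib.LocP
import Groth.Agent.GeomIrrLib.Conn

/-!
# Algebraic spaces over a field: products and extension of the field
-/

set_option autoImplicit false
set_option linter.style.haveILetI false
set_option backward.isDefEq.respectTransparency false
set_option backward.isDefEq.respectTransparency.types false

universe u

open CategoryTheory CategoryTheory.Limits AlgebraicGeometry TopologicalSpace Opposite Topology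
open AlgSp AlgSpLib

noncomputable section

namespace AlgSpFieldLib

theorem isPullback_prod_map {C : Type*} [Category C] [HasBinaryProducts C] {X X' Y Y' : C} (a : X' ⟶ X) (g : Y' ⟶ Y) :
    IsPullback (prod.map (𝟙 X') g) (prod.map a (𝟙 Y')) (prod.map a (𝟙 Y)) (prod.map (𝟙 X) g) := by
  refine IsPullback.of_isLimit' ⟨by simp⟩ (PullbackCone.IsLimit.mk _
    (fun σ => prod.lift (σ.fst ≫ prod.fst) (σ.snd ≫ prod.snd)) (fun σ => ?_) (fun σ => ?_) fun σ m h1 h2 => ?_)
  · have h := congrArg (· ≫ prod.snd) σ.condition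
    simp only [Category.assoc, prod.map_snd, Category.comp_id] at h
    apply Limits.prod.hom_ext
    · simp
    · simp [h]
  · have h := congrArg (· ≫ prod.fst) σ.condition
    simp only [Category.assoc, prod.map_fst, Category.comp_id] at h
    apply Limits.prod.hom_ext
    · simp [h]
    · simp
  · apply Limits.prod.hom_ext
    · rw [← h1]; simp
    · rw [← h2]; simp

theorem isPullback_snd_map {C : Type*} [Category C] [HasBinaryProducts C] {X Y Y' : C} (g : Y' ⟶ Y) :
    IsPullback (prod.map (𝟙 X) g) (prod.snd : X ⨯ Y' ⟶ Y') (prod.snd : X ⨯ Y ⟶ Y) g := by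
  refine IsPullback.of_isLimit' ⟨by simp⟩ (PullbackCone.IsLimit.mk _
    (fun σ => prod.lift (σ.fst ≫ prod.fst) σ.snd) (fun σ => ?_) (fun σ => by simp) fun σ m h1 h2 => ?_)
  · apply Limits.prod.hom_ext
    · simp
    · simpa using σ.condition.symm
  · apply Limits.prod.hom_ext
    · rw [← h1]; simp
    · rw [← h2]; simp

variable {S : Scheme.{u}}

/-- Openness on points is detected on a chart. -/
theorem isOpenMap_of_chart {F G : Sp S} (f : F ⟶ G) {U : Over S} (a : (yon S).obj U ⟶ F)
    (hs : Function.Surjective (Points.ofPt a)) (h : IsOpenMap (Points.ofPt (a ≫ f))) :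
    IsOpenMap (Points.map f) := fun O hO => by
  have e : Points.map f '' O = Points.ofPt (a ≫ f) '' (Points.ofPt a ⁻¹' O) := by
    rw [show Points.ofPt (a ≫ f) = Points.map f ∘ Points.ofPt a from funext fun t => (Points.map_ofPt a f t).symm,
      Set.image_comp, Set.image_preimage_eq _ hs]
  rw [e]
  exact h _ (hO.preimage (Points.continuous_ofPt a))

theorem ofPt_yon_comp' {F : Sp S} {T T' : Over S} (φ : T ⟶ T') (a : (yon S).obj T' ⟶ F) :
    Points.ofPt ((yon S).map φ ≫ a) = Points.ofPt a ∘ φ.left :=
  funext fun t => ofPt_yon_comp φ a t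

/-- The product of two charts. -/
def prodChart {F G : Sp S} {U V : Over S} (a : (yon S).obj U ⟶ F) (b : (yon S).obj V ⟶ G) :
    (yon S).obj (U ⨯ V) ⟶ F ⨯ G :=
  (PreservesLimitPair.iso (yon S) U V).hom ≫ prod.map a b

@[reassoc]
theorem prodChart_fst {F G : Sp S} {U V : Over S} (a : (yon S).obj U ⟶ F) (b : (yon S).obj V ⟶ G) :
    prodChart a b ≫ prod.fst = (yon S).map prod.fst ≫ a := by
  simp [prodChart]

@[reassoc]
theorem prodChart_snd {F G : Sp S} {U V : Over S} (a : (yon S).obj U ⟶ F) (b : (yon S).obj V ⟶ G) :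
    prodChart a b ≫ prod.snd = (yon S).map prod.snd ≫ b := by
  simp [prodChart]

theorem prodChart_map {F G G' : Sp S} {U V V' : Over S} (a : (yon S).obj U ⟶ F) (b : (yon S).obj V ⟶ G)
    (b' : (yon S).obj V' ⟶ G') (g : V' ⟶ V) (h : G' ⟶ G) (w : b' ≫ h = (yon S).map g ≫ b) :
    prodChart a b' ≫ prod.map (𝟙 F) h = (yon S).map (prod.map (𝟙 U) g) ≫ prodChart a b := by
  apply Limits.prod.hom_ext
  · rw [Category.assoc, Category.assoc, prod.map_fst, Category.comp_id, prodChart_fst, prodChart_fst,
      ← Functor.map_comp_assoc, prod.map_fst, Category.comp_id]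
  · rw [Category.assoc, Category.assoc, prod.map_snd, prodChart_snd_assoc, prodChart_snd,
      ← Functor.map_comp_assoc, prod.map_snd, Functor.map_comp, Category.assoc, w]

theorem repWith_prodChart {P : MorphismProperty Scheme.{u}} [P.IsStableUnderComposition]
    [P.IsStableUnderBaseChange] [P.ContainsIdentities] {F G : Sp S} {U V : Over S} {a : (yon S).obj U ⟶ F}
    {b : (yon S).obj V ⟶ G} (ha : RepWith P a) (hb : RepWith P b) : RepWith P (prodChart a b) := by
  haveI : IsIso (PreservesLimitPair.iso (yon S) U V).hom := inferInstance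
  exact ((RepWith P).cancel_left_of_respectsIso _ _).2 (repWith_prod_map ha hb)

theorem isOpenMap_ofPt_prodChart {F G : Sp S} {U V : Over S} {a : (yon S).obj U ⟶ F}
    {b : (yon S).obj V ⟶ G} (ha : RepWith @Etale a) (hb : RepWith @Etale b) :
    IsOpenMap (Points.ofPt (prodChart a b)) :=
  isOpenMap_ofPt (repWith_prodChart ha hb)

theorem surjective_ofPt_prodChart {F G : Sp S} {U V : Over S} {a : (yon S).obj U ⟶ F}
    {b : (yon S).obj V ⟶ G} (ha : RepWith @Surjective a) (hb : RepWith @Surjective b) :
    Function.Surjective (Points.ofPt (prodChart a b)) :=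
  surjective_ofPt (repWith_prodChart ha hb)

/-- The left component of a product in `Over S` is a fibre product. -/
theorem isPullback_prod_left (U V : Over S) :
    IsPullback (prod.fst : U ⨯ V ⟶ U).left (prod.snd : U ⨯ V ⟶ V).left U.hom V.hom :=
  IsPullback.of_iso_pullback ⟨by rw [Over.w, Over.w]⟩ (Over.prodLeftIsoPullback U V)
    (Over.prodLeftIsoPullback_hom_fst _ _) (Over.prodLeftIsoPullback_hom_snd _ _)

theorem isPullback_map_left (U : Over S) {V V' : Over S} (g : V' ⟶ V) :
    IsPullback (prod.map (𝟙 U) g).left (prod.snd : U ⨯ V' ⟶ V').left (prod.snd : U ⨯ V ⟶ V).left g.left := by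
  refine IsPullback.of_right (h₁₂ := (prod.fst : U ⨯ V ⟶ U).left) (h₂₂ := V.hom) (v₁₃ := U.hom) ?_ ?_
    (isPullback_prod_left U V)
  · rw [← Over.comp_left, prod.map_fst, Category.comp_id, Over.w]
    exact isPullback_prod_left U V'
  · rw [← Over.comp_left, ← Over.comp_left, prod.map_snd]

variable {k : Type u} [Field k]

/-- The base scheme. -/
abbrev B (k : Type u) [Field k] : Scheme.{u} := Spec (CommRingCat.of k)

/-- An extension field as a scheme over the base. -/
abbrev Ext (k : Type u) [Field k] (K : Type u) [Field K] [Algebra k K] : Over (B k) :=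
  Over.mk (Spec.map (CommRingCat.ofHom (algebraMap k K)))

instance {K : Type u} [Field K] [Algebra k K] : Unique ↥(Ext k K).left :=
  inferInstanceAs (Unique (PrimeSpectrum K))

theorem isOpenMap_left_prod_snd (U V : Over (B k)) : IsOpenMap (prod.snd : U ⨯ V ⟶ V).left := by
  haveI : UniversallyOpen U.hom := inferInstanceAs (UniversallyOpen (U.hom : U.left ⟶ Spec (CommRingCat.of k)))
  haveI : UniversallyOpen (prod.snd : U ⨯ V ⟶ V).left :=
    MorphismProperty.of_isPullback (P := @UniversallyOpen) (isPullback_prod_left U V) inferInstance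
  exact Scheme.Hom.isOpenMap _

theorem isOpenMap_left_prod_fst (U V : Over (B k)) : IsOpenMap (prod.fst : U ⨯ V ⟶ U).left := by
  haveI : UniversallyOpen V.hom := inferInstanceAs (UniversallyOpen (V.hom : V.left ⟶ Spec (CommRingCat.of k)))
  haveI : UniversallyOpen (prod.fst : U ⨯ V ⟶ U).left :=
    MorphismProperty.of_isPullback (P := @UniversallyOpen) (isPullback_prod_left U V).flip inferInstance
  exact Scheme.Hom.isOpenMap _

theorem isOpenMap_snd {F G : Sp (B k)} (hF : IsAlgSpace F) (hG : IsAlgSpace G) :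
    IsOpenMap (Points.map (prod.snd : F ⨯ G ⟶ G)) := by
  obtain ⟨U, a, ha, has⟩ := hF.atlas
  obtain ⟨V, b, hb, hbs⟩ := hG.atlas
  refine isOpenMap_of_chart _ (prodChart a b) (surjective_ofPt_prodChart has hbs) ?_
  rw [prodChart_snd, ofPt_yon_comp']
  exact (isOpenMap_ofPt hb).comp (isOpenMap_left_prod_snd U V)

theorem isOpenMap_fst {F G : Sp (B k)} (hF : IsAlgSpace F) (hG : IsAlgSpace G) :
    IsOpenMap (Points.map (prod.fst : F ⨯ G ⟶ F)) := by
  obtain ⟨U, a, ha, has⟩ := hF.atlas
  obtain ⟨V, b, hb, hbs⟩ := hG.atlas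
  refine isOpenMap_of_chart _ (prodChart a b) (surjective_ofPt_prodChart has hbs) ?_
  rw [prodChart_fst, ofPt_yon_comp']
  exact (isOpenMap_ofPt ha).comp (isOpenMap_left_prod_fst U V)

theorem repWith_id_yon (P : MorphismProperty Scheme.{u}) [P.IsStableUnderBaseChange] [P.ContainsIdentities]
    (V : Over S) : RepWith P (𝟙 ((yon S).obj V)) := AlgSp.repWith_id P V

variable {K L : Type u} [Field K] [Field L] [Algebra k K] [Algebra k L]

theorem surjective_bc {F : Sp (B k)} (g : Ext k L ⟶ Ext k K) :
    Function.Surjective (Points.map (prod.map (𝟙 F) ((yon (B k)).map g))) := by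
  refine map_surjective_of_isPullback (isPullback_snd_map ((yon (B k)).map g)).flip fun y => ?_
  obtain ⟨t, rfl⟩ := (Points.schemeHomeo (Ext k K)).surjective y
  exact ⟨Points.schemeHomeo (Ext k L) default, by
    rw [Points.map_yon_map_apply]; exact congrArg _ (Subsingleton.elim _ _)⟩

theorem isOpenMap_bc {F : Sp (B k)} (hF : IsAlgSpace F) (g : Ext k L ⟶ Ext k K) :
    IsOpenMap (Points.map (prod.map (𝟙 F) ((yon (B k)).map g))) := by
  obtain ⟨U, a, ha, has⟩ := hF.atlas
  refine isOpenMap_of_chart _ (prodChart a (𝟙 _))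
    (surjective_ofPt_prodChart has (repWith_id_yon _ _)) ?_
  rw [prodChart_map a (𝟙 _) (𝟙 _) g _ (by simp), ofPt_yon_comp']
  refine (isOpenMap_ofPt_prodChart ha (repWith_id_yon _ _)).comp ?_
  let g₀ : Spec (CommRingCat.of L) ⟶ Spec (CommRingCat.of K) := g.left
  haveI : UniversallyOpen g₀ := inferInstance
  haveI : UniversallyOpen g.left := inferInstanceAs (UniversallyOpen g₀)
  haveI : UniversallyOpen (prod.map (𝟙 U) g).left :=
    MorphismProperty.of_isPullback (P := @UniversallyOpen) (isPullback_map_left U g).flip inferInstance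
  exact Scheme.Hom.isOpenMap _

/-- A field over a separably closed field is geometrically connected. -/
theorem geometricallyConnected_of_isSepClosed [IsSepClosed K] (g : Spec (CommRingCat.of L) ⟶ Spec (CommRingCat.of K)) :
    GeometricallyConnected g := by
  obtain ⟨φ, rfl⟩ := Spec.map_surjective g
  have hb : Function.Bijective (algebraMap K (SeparableClosure K)) :=
    ⟨(algebraMap K (SeparableClosure K)).injective, IsSepClosed.algebraMap_surjective K (SeparableClosure K)⟩
  haveI : IsIso (CommRingCat.ofHom (algebraMap K (SeparableClosure K))) :=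
    (ConcreteCategory.isIso_iff_bijective _).2 hb
  haveI : ConnectedSpace ↥(Spec (CommRingCat.of L)) := inferInstanceAs (ConnectedSpace (PrimeSpectrum L))
  let f : Spec (CommRingCat.of L) ⟶ Spec (CommRingCat.of K) := Spec.map φ
  haveI : ConnectedSpace ↥(ConnBC.BC f (SeparableClosure K)) :=
    (asIso (pullback.fst f (Spec.map (CommRingCat.ofHom (algebraMap K (SeparableClosure K)))))).hom.homeomorph.connectedSpace_iff.mpr
      inferInstance
  exact GeomIrrLib.gc_of_connected_sepClosure f

theorem isConnected_fibre_bc [IsSepClosed K] {F : Sp (B k)} (hF : IsAlgSpace F) (g : Ext k L ⟶ Ext k K)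
    (y : Points (F ⨯ (yon (B k)).obj (Ext k K))) :
    IsConnected (Points.map (prod.map (𝟙 F) ((yon (B k)).map g)) ⁻¹' {y}) := by
  obtain ⟨U, a, ha, has⟩ := hF.atlas
  let c := prodChart (S := B k) a (𝟙 ((yon (B k)).obj (Ext k K)))
  let c' := prodChart (S := B k) a (𝟙 ((yon (B k)).obj (Ext k L)))
  obtain ⟨v, rfl⟩ := surjective_ofPt_prodChart (b := 𝟙 ((yon (B k)).obj (Ext k K))) has (repWith_id_yon _ _) y
  haveI : GeometricallyConnected g.left := geometricallyConnected_of_isSepClosed (K := K) g.left
  let m : U ⨯ Ext k L ⟶ U ⨯ Ext k K := prod.map (𝟙 U) g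
  haveI : GeometricallyConnected m.left :=
    MorphismProperty.of_isPullback (P := @GeometricallyConnected) (isPullback_map_left U g).flip inferInstance
  have sq : IsPullback ((yon (B k)).map m) c' c (prod.map (𝟙 F) ((yon (B k)).map g)) := by
    refine IsPullback.of_iso (isPullback_prod_map a ((yon (B k)).map g))
      (PreservesLimitPair.iso (yon (B k)) U (Ext k L)).symm (PreservesLimitPair.iso (yon (B k)) U (Ext k K)).symm
      (Iso.refl _) (Iso.refl _) ?_ ?_ ?_ ?_
    · rw [← cancel_mono (PreservesLimitPair.iso (yon (B k)) U (Ext k K)).hom]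
      apply Limits.prod.hom_ext
      · simp [m, ← Functor.map_comp]
      · simp only [Category.assoc, Iso.symm_hom, Iso.inv_hom_id, Category.comp_id, prod.map_snd]
        simp [m, ← Functor.map_comp]
        rw [Functor.map_comp]
        rw [← Category.assoc]
        congr 1
        rw [Iso.eq_inv_comp]
        simp
    · simp [c', prodChart, -PreservesLimitPair.iso_hom]
    · simp [c, prodChart, -PreservesLimitPair.iso_hom]
    · simp
  have e : Points.map (prod.map (𝟙 F) ((yon (B k)).map g)) ⁻¹' {Points.ofPt c v} =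
      Points.ofPt c' '' (m.left ⁻¹' {v}) := by
    ext z
    constructor
    · intro hz
      obtain ⟨w, h1, h2⟩ := exists_point_isPullback sq (Points.schemeHomeo _ v) z
        ((congrFun (ofPt_comp_ofScheme c) v).symm.trans hz.symm)
      obtain ⟨w, rfl⟩ := (Points.schemeHomeo _).surjective w
      rw [Points.map_yon_map_apply] at h1
      exact ⟨w, (Points.schemeHomeo _).injective h1, (congrFun (ofPt_comp_ofScheme c') w).trans h2⟩
    · rintro ⟨w, rfl, rfl⟩
      show Points.map _ (Points.ofPt c' w) = _
      rw [Points.map_ofPt, ← sq.w, ofPt_yon_comp]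
  rw [e]
  exact (m.left.isConnected_preimage_singleton v).image _ (Points.continuous_ofPt c').continuousOn

end AlgSpFieldLib
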