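import Groth.Agent.AlgSpFieldLib.Base

/-!
# Connectedness under extension of the ground field
-/

set_option autoImplicit false
set_option linter.style.haveILetI false
set_option backward.isDefEq.respectTransparency false
set_option backward.isDefEq.respectTransparency.types false

universe u

open CategoryTheory CategoryTheory.Limits AlgebraicGeometry TopologicalSpace Opposite Topology
open AlgSp AlgSpLib

noncomputable section

namespace AlgSpFieldLib

theorem connectedSpace_of_fibres {α β : Type*} [TopologicalSpace α] [TopologicalSpace β] {f : α → β}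
    (hc : Continuous f) (ho : IsOpenMap f) (hs : Function.Surjective f) (hf : ∀ y, IsConnected (f ⁻¹' {y}))
    [ConnectedSpace β] : ConnectedSpace α := by
  rw [connectedSpace_iff_univ, ← Set.preimage_univ (f := f)]
  exact (ho.isQuotientMap hc hs).isCoinducing.isConnected_preimage_of_isClosed hf isClosed_univ isConnected_univ

theorem bijective_connectedComponentsMap {α β : Type*} [TopologicalSpace α] [TopologicalSpace β] {f : α → β}
    (hc : Continuous f) (ho : IsOpenMap f) (hs : Function.Surjective f) (hf : ∀ y, IsConnected (f ⁻¹' {y})) :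
    Function.Bijective hc.connectedComponentsMap := by
  have hq := (ho.isQuotientMap hc hs).isCoinducing
  refine ⟨fun a b => ?_, fun c => ?_⟩
  · obtain ⟨x, rfl⟩ := ConnectedComponents.surjective_coe a
    obtain ⟨y, rfl⟩ := ConnectedComponents.surjective_coe b
    intro h
    have h' : (ConnectedComponents.mk (f x)) = ConnectedComponents.mk (f y) := h
    rw [ConnectedComponents.coe_eq_coe'] at h'
    rw [ConnectedComponents.coe_eq_coe']
    have hp := hq.isConnected_preimage_of_isClosed hf (isClosed_connectedComponent (x := f y))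
      isConnected_connectedComponent
    exact hp.isPreconnected.subset_connectedComponent (show y ∈ f ⁻¹' connectedComponent (f y) from mem_connectedComponent) h'
  · obtain ⟨y, rfl⟩ := ConnectedComponents.surjective_coe c
    obtain ⟨x, rfl⟩ := hs y
    exact ⟨ConnectedComponents.mk x, rfl⟩

variable {k : Type u} [Field k] {K L : Type u} [Field K] [Field L] [Algebra k K] [Algebra k L]

/-- The morphism of extensions attached to an algebra map. -/
def extHom (φ : K →ₐ[k] L) : Ext k L ⟶ Ext k K :=
  Over.homMk (Spec.map (CommRingCat.ofHom φ.toRingHom)) (by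
    change Spec.map (CommRingCat.ofHom φ.toRingHom) ≫ Spec.map _ = Spec.map _
    rw [← Spec.map_comp, ← CommRingCat.ofHom_comp,
      show φ.toRingHom.comp (algebraMap k K) = algebraMap k L from φ.comp_algebraMap])

variable (k) in
/-- The trivial extension is terminal. -/
def isTerminalExt : IsTerminal (Ext k k) :=
  (Over.mkIdTerminal (X := B k)).ofIso (Over.isoMk (Iso.refl _) (by
    simp only [Over.mk_hom, Iso.refl_hom, Category.id_comp]
    rw [show algebraMap k k = RingHom.id k from rfl]
    exact Spec.map_id _))

theorem isIso_fst (F : Sp (B k)) : IsIso (prod.fst : F ⨯ (yon (B k)).obj (Ext k k) ⟶ F) := by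
  let t : IsTerminal ((yon (B k)).obj (Ext k k)) := (isTerminalExt k).isTerminalObj (yon (B k)) _
  refine ⟨prod.lift (𝟙 _) (t.from F), ?_, prod.lift_fst _ _⟩
  apply Limits.prod.hom_ext
  · simp
  · exact t.hom_ext _ _

theorem bijective_fst (F : Sp (B k)) :
    Function.Bijective (Points.map (prod.fst : F ⨯ (yon (B k)).obj (Ext k k) ⟶ F)) := by
  haveI := isIso_fst F
  refine Function.bijective_iff_has_inverse.2 ⟨Points.map (inv (prod.fst : F ⨯ (yon (B k)).obj (Ext k k) ⟶ F)),
    fun x => ?_, fun x => ?_⟩
  · rw [← Points.map_comp, IsIso.hom_inv_id, Points.map_id]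
  · rw [← Points.map_comp, IsIso.inv_hom_id, Points.map_id]

theorem fst_eq (F : Sp (B k)) :
    Points.map (prod.fst : F ⨯ (yon (B k)).obj (Ext k K) ⟶ F) =
      Points.map prod.fst ∘ Points.map (prod.map (𝟙 F) ((yon (B k)).map (extHom (Algebra.ofId k K)))) := by
  funext x
  rw [Function.comp_apply, ← Points.map_comp, prod.map_fst, Category.comp_id]

theorem surjective_fst (F : Sp (B k)) :
    Function.Surjective (Points.map (prod.fst : F ⨯ (yon (B k)).obj (Ext k K) ⟶ F)) := by
  rw [fst_eq]; exact (bijective_fst F).2.comp (surjective_bc _)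

theorem isConnected_fibre_fst [IsSepClosed k] {F : Sp (B k)} (hF : IsAlgSpace F) (y : Points F) :
    IsConnected (Points.map (prod.fst : F ⨯ (yon (B k)).obj (Ext k K) ⟶ F) ⁻¹' {y}) := by
  rw [fst_eq, Set.preimage_comp]
  obtain ⟨y', rfl⟩ := (bijective_fst F).2 y
  rw [show Points.map (prod.fst : F ⨯ (yon (B k)).obj (Ext k k) ⟶ F) ⁻¹'
      {Points.map prod.fst y'} = {y'} from (bijective_fst F).1.preimage_image {y'} ▸ by rw [Set.image_singleton]]
  exact isConnected_fibre_bc hF _ y'

/-- Connected after a separably closed extension means connected after all extensions. -/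
theorem connectedSpace_of_sepClosed [IsSepClosed L] {F : Sp (B k)} (hF : IsAlgSpace F)
    (h : ConnectedSpace (Points (F ⨯ (yon (B k)).obj (Ext k L)))) (K : Type u) [Field K] [Algebra k K] :
    ConnectedSpace (Points (F ⨯ (yon (B k)).obj (Ext k K))) := by
  obtain ⟨Ω, _, i₁, i₂, hi⟩ := FieldPt.exists_amalgamation (algebraMap k K) (algebraMap k L)
  letI : Algebra k Ω := (i₁.comp (algebraMap k K)).toAlgebra
  let φ₁ : K →ₐ[k] Ω := { i₁ with commutes' := fun _ => rfl }
  let φ₂ : L →ₐ[k] Ω := { i₂ with commutes' := fun c => (DFunLike.congr_fun hi c).symm }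
  haveI := connectedSpace_of_fibres (Points.continuous_map _) (isOpenMap_bc hF (extHom φ₂)) (surjective_bc _)
    (isConnected_fibre_bc hF (extHom φ₂))
  exact (surjective_bc (F := F) (extHom φ₁)).connectedSpace (Points.continuous_map _)

theorem connectedSpace_of_connected [IsSepClosed k] {F : Sp (B k)} (hF : IsAlgSpace F) [ConnectedSpace (Points F)]
    (K : Type u) [Field K] [Algebra k K] : ConnectedSpace (Points (F ⨯ (yon (B k)).obj (Ext k K))) :=
  connectedSpace_of_fibres (Points.continuous_map _)
    (isOpenMap_fst hF (IsAlgSpace.yon_obj _)) (surjective_fst F) (isConnected_fibre_fst hF)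

theorem isConnected_fibre_snd {F G : Sp (B k)} (hF : ∀ (K : Type u) [Field K] [Algebra k K],
      ConnectedSpace (Points (F ⨯ (yon (B k)).obj (Ext k K)))) (y : Points G) :
    IsConnected (Points.map (prod.snd : F ⨯ G ⟶ G) ⁻¹' {y}) := by
  induction y using Points.ind with
  | h p =>
  letI : Algebra k p.K := (Spec.preimage p.str).hom.toAlgebra
  have e : p.pt = Ext k p.K := by
    show Over.mk p.str = Over.mk _
    congr 1
    exact (Spec.map_preimage p.str).symm
  have h : ConnectedSpace (Points (F ⨯ (yon (B k)).obj p.pt)) := e ▸ hF p.K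
  have sq := isPullback_snd_map (X := F) p.toHom
  have hr : Set.range (Points.map (prod.map (𝟙 F) p.toHom)) =
      Points.map (prod.snd : F ⨯ G ⟶ G) ⁻¹' {Points.mk p} := by
    rw [range_map_of_isPullback sq.flip, ← range_ofPt]
    congr 1
    ext z
    refine ⟨fun ⟨t, ht⟩ => ?_, fun hz => ⟨IsLocalRing.closedPoint p.K, ?_⟩⟩
    · rw [← ht, Points.ofPt_toHom]; rfl
    · rw [Points.ofPt_toHom]; exact hz.symm
  rw [← hr]
  exact isConnected_range (Points.continuous_map _)

theorem surjective_snd {F G : Sp (B k)} (hF : ∀ (K : Type u) [Field K] [Algebra k K],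
      ConnectedSpace (Points (F ⨯ (yon (B k)).obj (Ext k K)))) :
    Function.Surjective (Points.map (prod.snd : F ⨯ G ⟶ G)) := fun y => (isConnected_fibre_snd hF y).nonempty

end AlgSpFieldLib
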