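import Groth.Agent.SpectralQuot.SchematicLocus
import Groth.Agent.SpectralQuot.DenseScheme
import Groth.Agent.MiscFlat6.DimZero
import Groth.Agent.MiscFlat6.NormalLowDim

/-!
# Zero-dimensional algebraic spaces
-/

set_option autoImplicit false
set_option linter.style.haveILetI false
set_option backward.isDefEq.respectTransparency false
set_option backward.isDefEq.respectTransparency.types false

universe u

open CategoryTheory CategoryTheory.Limits AlgebraicGeometry TopologicalSpace Opposite Topology
open AlgSp AlgSpLib SpectralQuot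

noncomputable section

namespace AlgSpFieldLib

variable {S : Scheme.{u}}

theorem topologicalKrullDim_le_of_chart {F : Sp S} (hd : AlgSp.dim F ≤ 0) {U : Over S}
    {a : (yon S).obj U ⟶ F} (ha : RepWith @Etale a) : topologicalKrullDim ↥U.left ≤ 0 := by
  refine le_trans ?_ hd
  exact le_iSup_of_le U (le_iSup_of_le a (le_iSup_of_le ha le_rfl))

/-- A space of dimension zero with quasi-compact relations on small affine charts is a scheme. -/
theorem isRepSh_of_dim_zero (X : AlgSp.Space S) (hd : AlgSp.dim X.obj ≤ 0)
    (hR : ∀ (U R : Over S) [IsAffine U.left] (S₀ : S.Opens) (_ : IsAffineOpen S₀) (_ : Set.range U.hom ⊆ S₀)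
      (a : (yon S).obj U ⟶ X.obj) (_ : RepWith @Etale a) (t s : R ⟶ U)
      (_ : IsPullback ((yon S).map t) ((yon S).map s) a a), CompactSpace R.left) : IsRepSh X.obj := by
  obtain ⟨V, b, hb, hbs⟩ := X.property.atlas
  have hall : ∀ x : Points X.obj, x ∈ schemeLocus X.obj := fun x => by
    obtain ⟨v, rfl⟩ := surjective_ofPt hbs x
    obtain ⟨S₀, hS₀, hvS, -⟩ := exists_isAffineOpen_mem_and_subset (U := (⊤ : S.Opens)) (x := V.hom v) trivial
    obtain ⟨O, hO, hvO, hOS⟩ := exists_isAffineOpen_mem_and_subset (U := V.hom ⁻¹ᵁ S₀) (x := v) hvS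
    let U : Over S := Over.mk (O.ι ≫ V.hom)
    haveI : IsAffine U.left := hO
    let j : U ⟶ V := Over.homMk O.ι rfl
    let a := (yon S).map j ≫ b
    have ha : RepWith @Etale a := repWith_comp (P := (@Etale : MorphismProperty Scheme.{u}))
      ((repWith_yon_map_iff (@Etale : MorphismProperty Scheme.{u}) j).2 (inferInstanceAs (Etale O.ι))) hb
    obtain ⟨R, t, s, sq⟩ := exists_isPullback_yon a a ha.rep
    haveI := hR U R S₀ hS₀ (by rintro _ ⟨w, rfl⟩; exact hOS w.2) a ha t s sq
    have hmem := mem_schemeLocus_of_codim_zero X.property ha sq ⟨v, hvO⟩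
      (le_antisymm ((MiscFlat6.ringKrullDim_stalk_le _ _).trans (topologicalKrullDim_le_of_chart hd ha))
        ringKrullDim_nonneg_of_nontrivial)
    rw [ofPt_yon_comp] at hmem
    exact hmem
  haveI := isIso_of_openImmersion_surjective (repWith_openSubι X.obj (isOpen_schemeLocus X.obj)) fun x => by
    rw [← Set.mem_range, range_openSubι]; exact hall x
  exact (isRepSh_schemeLocus X.property).of_iso (asIso (openSubι X.obj (schemeLocus X.obj)))

theorem scheme_of_dim_zero {X : Sp S} (hd : AlgSp.dim X ≤ 0) {W : Over S} (e : (yon S).obj W ≅ X)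
    [QuasiSeparatedSpace W.left] :
    W.left.IsSeparated ∧ ∀ V : W.left.Opens, IsCompact (V : Set ↥W.left) → IsAffineOpen V := by
  have h := topologicalKrullDim_le_of_chart hd (MorphismProperty.RespectsIso.postcomp
    (P := RepWith (@Etale : MorphismProperty Scheme.{u})) e.hom (𝟙 _)
    (repWith_id (@Etale : MorphismProperty Scheme.{u}) W))
  haveI := MiscFlat6.isSeparated_of_dim_le_zero _ h
  exact ⟨inferInstance, MiscFlat6.isAffineOpen_of_isCompact _ h⟩

theorem quasiSeparatedSpace_of_iso [QuasiSeparatedSpace S] {X : Sp S} (hq : IsQuasiSeparatedSp X) {W : Over S}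
    (e : (yon S).obj W ≅ X) : QuasiSeparatedSpace W.left := by
  have e1 : diag ((yon S).obj W) = (yon S).map (diag W) ≫ prodComparison (yon S) W W := by
    apply prod.hom_ext
    · rw [prod.lift_fst, Category.assoc, prodComparison_fst, ← Functor.map_comp, prod.lift_fst, CategoryTheory.Functor.map_id]
    · rw [prod.lift_snd, Category.assoc, prodComparison_snd, ← Functor.map_comp, prod.lift_snd, CategoryTheory.Functor.map_id]
  have e2 : diag ((yon S).obj W) ≫ prod.map e.hom e.hom = e.hom ≫ diag X := by simp
  have h : RepWith @QuasiCompact ((yon S).map (diag W)) := by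
    have h1 : RepWith @QuasiCompact (e.hom ≫ diag X) :=
      MorphismProperty.RespectsIso.precomp _ _ _ hq
    rwa [← e2, MorphismProperty.cancel_right_of_respectsIso (P := RepWith @QuasiCompact), e1,
      MorphismProperty.cancel_right_of_respectsIso (P := RepWith @QuasiCompact)] at h1
  haveI : QuasiCompact (diag W).left := (repWith_yon_map_iff (P := (@QuasiCompact : MorphismProperty Scheme.{u})) _).1 h
  have e3 : (diag W).left ≫ (Over.prodLeftIsoPullback W W).hom = pullback.diagonal W.hom := by
    apply pullback.hom_ext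
    · rw [Category.assoc, Over.prodLeftIsoPullback_hom_fst, ← Over.comp_left, prod.lift_fst, pullback.diagonal_fst]
      rfl
    · rw [Category.assoc, Over.prodLeftIsoPullback_hom_snd, ← Over.comp_left, prod.lift_snd, pullback.diagonal_snd]
      rfl
  haveI : QuasiSeparated W.hom := ⟨by rw [← e3]; infer_instance⟩
  exact quasiSeparatedSpace_of_quasiSeparated W.hom

variable {k : Type u} [Field k]

theorem compactSpace_relation_field {X : Sp (Spec (CommRingCat.of k))}
    (p : X ⟶ (yon (Spec (CommRingCat.of k))).obj (Over.mk (𝟙 _))) (hp : LocP @LocallyOfFiniteType p)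
    (hd : AlgSp.dim X ≤ 0) {U R : Over (Spec (CommRingCat.of k))} [IsAffine U.left]
    {a : (yon _).obj U ⟶ X} (ha : RepWith @Etale a) {t s : R ⟶ U}
    (sq : IsPullback ((yon _).map t) ((yon _).map s) a a) : CompactSpace R.left := by
  obtain ⟨h, hh⟩ := (yon (Spec (CommRingCat.of k))).map_surjective (a ≫ p)
  have hft := hp a (𝟙 _) h ha (repWith_id _ _) (by rw [hh, Category.comp_id])
  have eh : h.left = U.hom := by simpa using Over.w h
  haveI : LocallyOfFiniteType U.hom := eh ▸ hft
  haveI : IsLocallyNoetherian U.left := LocallyOfFiniteType.isLocallyNoetherian U.hom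
  haveI : AlgebraicGeometry.IsNoetherian U.left := {}
  haveI : T2Space U.left := MiscFlat6.t2Space_of_dim_le_zero _ (topologicalKrullDim_le_of_chart hd ha)
  haveI : Finite U.left := TopologicalSpace.NoetherianSpace.finite
  haveI : LocallyQuasiFinite U.hom := LocallyQuasiFinite.of_finite_preimage_singleton U.hom fun _ => Set.toFinite _
  haveI : QuasiCompact U.hom := inferInstance
  haveI : Finite ↥(pullback U.hom U.hom) := by
    rw [← Set.finite_univ_iff, ← Set.preimage_univ (f := pullback.fst U.hom U.hom)]
    exact (pullback.fst U.hom U.hom).finite_preimage (Set.toFinite _)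
  let m : R.left ⟶ pullback U.hom U.hom := pullback.lift t.left s.left (by rw [Over.w, Over.w])
  haveI : Mono m := by
    refine ⟨fun {Z} g₁ g₂ e => ?_⟩
    have e1 : g₁ ≫ t.left = g₂ ≫ t.left := by
      simpa [m, Category.assoc] using congrArg (· ≫ pullback.fst U.hom U.hom) e
    have e2 : g₁ ≫ s.left = g₂ ≫ s.left := by
      simpa [m, Category.assoc] using congrArg (· ≫ pullback.snd U.hom U.hom) e
    let Zo : Over (Spec (CommRingCat.of k)) := Over.mk (g₁ ≫ R.hom)
    let a₁ : Zo ⟶ R := Over.homMk g₁ rfl
    let a₂ : Zo ⟶ R := Over.homMk g₂ (by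
      show g₂ ≫ R.hom = g₁ ≫ R.hom
      rw [← Over.w t, ← Category.assoc, ← e1, Category.assoc])
    have : a₁ = a₂ := (yon (Spec (CommRingCat.of k))).map_injective (sq.hom_ext
      (by rw [← Functor.map_comp, ← Functor.map_comp]; exact congrArg _ (Over.OverMorphism.ext e1))
      (by rw [← Functor.map_comp, ← Functor.map_comp]; exact congrArg _ (Over.OverMorphism.ext e2)))
    exact congrArg Over.Hom.left this
  haveI : UniversallyInjective m := inferInstance
  haveI : Finite R.left := Finite.of_injective _ m.injective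
  exact Finite.compactSpace

end AlgSpFieldLib
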