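import Groth.Agent.AlgSpLib.RepBase
import Groth.Agent.AlgSpLib.LocalTarget
import Groth.Prelude.Def_Desc

/-!
# Representability from effective descent
-/

set_option autoImplicit false
set_option linter.style.haveILetI false
set_option backward.isDefEq.respectTransparency false
set_option backward.isDefEq.respectTransparency.types false

universe u

open CategoryTheory CategoryTheory.Limits AlgebraicGeometry Opposite AlgSp AlgSpLib

noncomputable section

namespace AlgSpFieldLib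

namespace EffDatum

variable {S : Scheme.{u}} {T T' W' : Over S} {q : T' ⟶ T} {G : Sp S} {π : G ⟶ (yon S).obj T}
  {fst : (yon S).obj W' ⟶ G} {pW : W' ⟶ T'}
  (sq : IsPullback fst ((yon S).map pW) π ((yon S).map q))

/-- The point of `G` defined by a point of `W'`. -/
abbrev gpt (fst : (yon S).obj W' ⟶ G) {Z : Scheme.{u}} (v : Z ⟶ W'.left) (s : Z ⟶ S) (hv : v ≫ W'.hom = s) :
    (yon S).obj (Over.mk s) ⟶ G :=
  (yon S).map (Over.homMk v hv : Over.mk s ⟶ W') ≫ fst

/-- Two points of `W'` define the same point of `G`. -/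
def Rel (fst : (yon S).obj W' ⟶ G) {Z : Scheme.{u}} (v w : Z ⟶ W'.left) : Prop :=
  w ≫ W'.hom = v ≫ W'.hom ∧ ∀ (s : Z ⟶ S) (hv : v ≫ W'.hom = s) (hw : w ≫ W'.hom = s),
    gpt fst v s hv = gpt fst w s hw

theorem rel_refl {Z : Scheme.{u}} (v : Z ⟶ W'.left) : Rel fst v v := ⟨rfl, fun _ _ _ => rfl⟩

theorem rel_symm {Z : Scheme.{u}} {v w : Z ⟶ W'.left} (h : Rel fst v w) : Rel fst w v :=
  ⟨h.1.symm, fun s hv hw => (h.2 s hw hv).symm⟩

theorem rel_trans {Z : Scheme.{u}} {v w x : Z ⟶ W'.left} (h : Rel fst v w) (h' : Rel fst w x) : Rel fst v x :=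
  ⟨h'.1.trans h.1, fun s hv hx => (h.2 s hv (h.1.trans hv)).trans (h'.2 s (h.1.trans hv) hx)⟩

theorem rel_comp {Z Z' : Scheme.{u}} (g : Z' ⟶ Z) {v w : Z ⟶ W'.left} (h : Rel fst v w) :
    Rel fst (g ≫ v) (g ≫ w) := by
  refine ⟨by rw [Category.assoc, Category.assoc, h.1], fun s hv hw => ?_⟩
  let s₀ := v ≫ W'.hom
  let g' : Over.mk s ⟶ Over.mk s₀ := Over.homMk g (by
    change g ≫ v ≫ W'.hom = s; rw [← Category.assoc]; exact hv)
  have e₁ : (Over.homMk (g ≫ v) hv : Over.mk s ⟶ W') = g' ≫ Over.homMk v rfl := Over.OverMorphism.ext rfl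
  have e₂ : (Over.homMk (g ≫ w) hw : Over.mk s ⟶ W') = g' ≫ Over.homMk w h.1 := Over.OverMorphism.ext rfl
  rw [gpt, gpt, e₁, e₂, Functor.map_comp, Functor.map_comp, Category.assoc, Category.assoc]
  exact congrArg _ (h.2 s₀ rfl h.1)

include sq in
theorem rel_unique {Z : Scheme.{u}} {v w : Z ⟶ W'.left} (h : Rel fst v w) (e : v ≫ pW.left = w ≫ pW.left) :
    v = w := by
  let s := v ≫ W'.hom
  have key : (Over.homMk v rfl : Over.mk s ⟶ W') = Over.homMk w h.1 := (yon S).map_injective (sq.hom_ext (h.2 s rfl h.1)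
    (by rw [← Functor.map_comp, ← Functor.map_comp]; exact congrArg _ (Over.OverMorphism.ext e)))
  exact congrArg Over.Hom.left key

include sq in
theorem rel_exists {Z : Scheme.{u}} (v : Z ⟶ W'.left) (x : Z ⟶ T'.left)
    (hx : (v ≫ pW.left) ≫ q.left = x ≫ q.left) :
    ∃ w : Z ⟶ W'.left, w ≫ pW.left = x ∧ Rel fst v w := by
  let s := v ≫ W'.hom
  have hxs : x ≫ T'.hom = s := by
    rw [← Over.w q, ← Category.assoc, ← hx, Category.assoc, Over.w q, Category.assoc, Over.w pW]
  let v' : Over.mk s ⟶ W' := Over.homMk v rfl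
  let x' : Over.mk s ⟶ T' := Over.homMk x hxs
  have e : (yon S).map v' ≫ fst ≫ π = (yon S).map x' ≫ (yon S).map q := by
    rw [sq.w, ← Functor.map_comp, ← Functor.map_comp, ← Functor.map_comp]
    exact congrArg _ (Over.OverMorphism.ext (by simpa [v', x', Category.assoc] using hx))
  obtain ⟨w, hw⟩ := (yon S).map_surjective (sq.lift ((yon S).map v' ≫ fst) ((yon S).map x')
    (by rw [Category.assoc]; exact e))
  have h1 : (yon S).map w ≫ fst = (yon S).map v' ≫ fst := by rw [hw, sq.lift_fst]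
  have h2 : w ≫ pW = x' := (yon S).map_injective (by rw [Functor.map_comp, hw, sq.lift_snd])
  refine ⟨w.left, congrArg Over.Hom.left h2, Over.w w, fun s' hv hw' => ?_⟩
  obtain rfl : s = s' := hv
  exact h1.symm

end EffDatum

open EffDatum

variable {S : Scheme.{u}}

/-- A sheaf which becomes a scheme after an fppf covering is a scheme, when the descent datum is effective. -/
theorem isRepSh_of_effective {T T' W' : Over S} {q : T' ⟶ T} {G : Sp S} {π : G ⟶ (yon S).obj T}
    {fst : (yon S).obj W' ⟶ G} {pW : W' ⟶ T'} (sq : IsPullback fst ((yon S).map pW) π ((yon S).map q))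
    [Flat q.left] [LocallyOfFinitePresentation q.left] [Surjective q.left]
    (hD : ∀ D : Desc.SchDD q.left, D.obj = Over.mk pW.left → (Desc.toDD q.left).essImage D) : IsRepSh G := by
  classical
  have hex : ∀ ⦃Z : Scheme.{u}⦄ (x₀ x₁ : Z ⟶ T'.left), x₀ ≫ q.left = x₁ ≫ q.left →
      ∀ v : Desc.Lifts (Over.mk pW.left) x₀, ∃ w : Desc.Lifts (Over.mk pW.left) x₁, Rel fst v.1 w.1 := by
    intro Z x₀ x₁ h v
    obtain ⟨w, hw, hr⟩ := rel_exists sq v.1 x₁ (by
      have hv : v.1 ≫ pW.left = x₀ := v.2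
      rw [hv, h])
    exact ⟨⟨w, hw⟩, hr⟩
  choose f hf using hex
  have huniq : ∀ {Z : Scheme.{u}} {x : Z ⟶ T'.left} (v : Z ⟶ W'.left) (w w' : Desc.Lifts (Over.mk pW.left) x),
      Rel fst v w.1 → Rel fst v w'.1 → w = w' := fun v w w' h h' =>
    Subtype.ext (rel_unique sq (rel_trans (rel_symm h) h') (w.2.trans w'.2.symm))
  let D : Desc.SchDD q.left :=
    { obj := Over.mk pW.left
      φ := fun Z x₀ x₁ h =>
        { toFun := f x₀ x₁ h
          invFun := f x₁ x₀ h.symm
          left_inv := fun v => huniq _ _ _ (hf x₁ x₀ h.symm (f x₀ x₁ h v)) (rel_symm (hf x₀ x₁ h v))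
          right_inv := fun v => huniq _ _ _ (hf x₀ x₁ h (f x₁ x₀ h.symm v)) (rel_symm (hf x₁ x₀ h.symm v)) }
      φ_natural := fun Z Z' g x₀ x₁ h h' v v' hv' => by
        have h1 := hf (g ≫ x₀) (g ≫ x₁) h' v'
        rw [hv'] at h1
        exact congrArg Subtype.val (huniq (g ≫ v.1) (f (g ≫ x₀) (g ≫ x₁) h' v')
          ⟨g ≫ (f x₀ x₁ h v).1, by rw [Category.assoc]; exact congrArg (g ≫ ·) (f x₀ x₁ h v).2⟩
          h1 (rel_comp g (hf x₀ x₁ h v)))
      φ_self := fun Z x v => huniq v.1 _ _ (hf x x rfl v) (rel_refl _)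
      φ_comp := fun Z x₀ x₁ x₂ h₀₁ h₁₂ v => huniq v.1 _ _
        (rel_trans (hf x₀ x₁ h₀₁ v) (hf x₁ x₂ h₁₂ _)) (hf x₀ x₂ (h₀₁.trans h₁₂) v) }
  obtain ⟨W, ⟨ε⟩⟩ := hD D rfl
  let ψ : W'.left ⟶ pullback q.left W.hom := ε.inv.hom.left
  let ψ' : pullback q.left W.hom ⟶ W'.left := ε.hom.hom.left
  have hψ : ψ ≫ ψ' = 𝟙 _ := congrArg (fun a : D ⟶ D => a.hom.left) ε.inv_hom_id
  have hψ' : ψ' ≫ ψ = 𝟙 _ := congrArg (fun a : (Desc.toDD q.left).obj W ⟶ (Desc.toDD q.left).obj W => a.hom.left)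
    ε.hom_inv_id
  haveI : IsIso ψ := ⟨ψ', hψ, hψ'⟩
  have hψ1 : ψ ≫ pullback.fst q.left W.hom = pW.left := Over.w ε.inv.hom
  let M : Over S := Over.mk (W.hom ≫ T.hom)
  let m : W' ⟶ M := Over.homMk (ψ ≫ pullback.snd q.left W.hom) (by
    change (ψ ≫ pullback.snd q.left W.hom) ≫ W.hom ≫ T.hom = W'.hom
    rw [Category.assoc, ← Category.assoc (pullback.snd _ _), ← pullback.condition, Category.assoc,
      reassoc_of% hψ1, Over.w q, Over.w pW])
  haveI : Flat m.left := inferInstanceAs (Flat (ψ ≫ pullback.snd q.left W.hom))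
  haveI : LocallyOfFinitePresentation m.left := inferInstanceAs (LocallyOfFinitePresentation (ψ ≫ pullback.snd q.left W.hom))
  haveI : Surjective m.left := inferInstanceAs (Surjective (ψ ≫ pullback.snd q.left W.hom))
  haveI hls : Sheaf.IsLocallySurjective ((yon S).map m) := isLocallySurjective_yon_map m
  have hrel : ∀ {Z : Scheme.{u}} (v w : Z ⟶ W'.left), Rel fst v w ↔ v ≫ m.left = w ≫ m.left := by
    intro Z v w
    have comm : ∀ (x₁ : Z ⟶ T'.left) (h : (v ≫ pW.left) ≫ q.left = x₁ ≫ q.left),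
        (f (v ≫ pW.left) x₁ h ⟨v, rfl⟩).1 ≫ m.left = v ≫ m.left := fun x₁ h => by
      have hc := ε.inv.comm (v ≫ pW.left) x₁ h ⟨v, rfl⟩
        ⟨v ≫ ψ, by rw [Category.assoc]; exact congrArg (v ≫ ·) hψ1⟩ rfl
      change _ = (f (v ≫ pW.left) x₁ h ⟨v, rfl⟩).1 ≫ ψ at hc
      show _ ≫ ψ ≫ _ = _ ≫ ψ ≫ _
      rw [← Category.assoc, ← hc]
      simp [Desc.toDD, Desc.canonicalDD, m]
    constructor
    · intro hr
      have h : (v ≫ pW.left) ≫ q.left = (w ≫ pW.left) ≫ q.left := by
        have e := congrArg (· ≫ π) (hr.2 (v ≫ W'.hom) rfl hr.1)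
        simp only [gpt, Category.assoc, sq.w, ← Functor.map_comp] at e
        have := congrArg Over.Hom.left ((yon S).map_injective e)
        simpa [Category.assoc] using this
      rw [← comm _ h, huniq v (f (v ≫ pW.left) (w ≫ pW.left) h ⟨v, rfl⟩) ⟨w, rfl⟩ (hf _ _ h _) hr]
    · intro e
      have hm : m.left ≫ W.hom = pW.left ≫ q.left := by
        show (ψ ≫ pullback.snd q.left W.hom) ≫ W.hom = _
        rw [Category.assoc, ← pullback.condition, reassoc_of% hψ1]
      have h : (v ≫ pW.left) ≫ q.left = (w ≫ pW.left) ≫ q.left := by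
        rw [Category.assoc, Category.assoc, ← hm, ← Category.assoc, e, Category.assoc]
      have hc := comm _ h
      rw [e] at hc
      have h1 : (f (v ≫ pW.left) (w ≫ pW.left) h ⟨v, rfl⟩).1 = w := by
        rw [← cancel_mono ψ]
        apply pullback.hom_ext
        · rw [Category.assoc, Category.assoc, hψ1]; exact (f _ _ h _).2
        · rw [Category.assoc, Category.assoc]; exact hc
      have h2 := hf _ _ h ⟨v, rfl⟩
      rwa [h1] at h2
  obtain ⟨y, hy⟩ := exists_desc ((yon S).map m) fst fun Z b b' h => by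
    obtain ⟨b, rfl⟩ := (yon S).map_surjective b
    obtain ⟨b', rfl⟩ := (yon S).map_surjective b'
    rw [← Functor.map_comp, ← Functor.map_comp] at h
    have := (hrel b.left b'.left).2 (congrArg Over.Hom.left ((yon S).map_injective h))
    exact this.2 Z.hom (Over.w b) (Over.w b')
  haveI : Sheaf.IsLocallySurjective fst := isLocallySurjective_fst sq
    ((repWith_yon_map_iff _ _).2 (inferInstanceAs (Flat q.left)))
    ((repWith_yon_map_iff _ _).2 (inferInstanceAs (LocallyOfFinitePresentation q.left)))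
    ((repWith_yon_map_iff _ _).2 (inferInstanceAs (Surjective q.left)))
  obtain ⟨y', hy'⟩ := exists_desc fst ((yon S).map m) fun Z b b' h => by
    obtain ⟨b, rfl⟩ := (yon S).map_surjective b
    obtain ⟨b', rfl⟩ := (yon S).map_surjective b'
    rw [← Functor.map_comp, ← Functor.map_comp]
    refine congrArg _ (Over.OverMorphism.ext ?_)
    refine (hrel b.left b'.left).1 ⟨(Over.w b').trans (Over.w b).symm, fun s hv hw => ?_⟩
    obtain rfl : Z.hom = s := (Over.w b).symm.trans hv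
    exact h
  haveI : Epi ((yon S).map m) := (Sheaf.isLocallySurjective_iff_epi _).mp hls
  haveI : Epi fst := (Sheaf.isLocallySurjective_iff_epi _).mp inferInstance
  exact ⟨M, ⟨{
    hom := y
    inv := y'
    hom_inv_id := by rw [← cancel_epi ((yon S).map m), reassoc_of% hy, hy', Category.comp_id]
    inv_hom_id := by rw [← cancel_epi fst, reassoc_of% hy', hy, Category.comp_id] }⟩⟩

end AlgSpFieldLib
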