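import Groth.Agent.AlgSpFieldLib.Conn
import Groth.Agent.GalTwLib.Points
import Groth.Agent.ConnBC.Main
import Mathlib.FieldTheory.KrullTopology

/-!
# Galois descent of subsets of points of algebraic spaces
-/

set_option autoImplicit false
set_option linter.style.haveILetI false
set_option backward.isDefEq.respectTransparency false
set_option backward.isDefEq.respectTransparency.types false

universe u

open CategoryTheory CategoryTheory.Limits AlgebraicGeometry TopologicalSpace Opposite Topology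
open AlgSp AlgSpLib TensorProduct

noncomputable section

namespace AlgSpFieldLib

section Level

variable {k : Type u} [Field k] {X : Scheme.{u}} (f : X ⟶ Spec (CommRingCat.of k)) {K : Type u} [Field K] [Algebra k K]

/-- Opens of a base change are unions of opens coming from finitely generated subextensions. -/
theorem exists_saturated_nhd {w : ↥(ConnBC.BC f K)} {N : Set ↥(ConnBC.BC f K)} (hN : IsOpen N) (hw : w ∈ N) :
    ∃ (S : Finset K) (W : Set ↥(ConnBC.BC f K)), IsOpen W ∧ w ∈ W ∧ W ⊆ N ∧ ∀ z ∈ W, ∀ z',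
      ConnBC.chg f (ConnBC.lev (k := k) K S).val z' = ConnBC.chg f (ConnBC.lev (k := k) K S).val z → z' ∈ W := by
  classical
  obtain ⟨_, ⟨O, hO, rfl⟩, hwO, -⟩ := X.isBasis_affineOpens.exists_subset_of_mem_open
    (Set.mem_univ (ConnBC.pr f K w)) isOpen_univ
  replace hO : IsAffineOpen O := hO
  let R := Γ(X, O)
  obtain ⟨φ, hφ⟩ := Spec.map_surjective (hO.fromSpec ≫ f)
  algebraize [φ.hom]
  have hφ' : Spec.map (CommRingCat.ofHom (algebraMap k R)) = hO.fromSpec ≫ f := hφ
  let c := ConnBC.chart f R hO.fromSpec hφ' K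
  obtain ⟨P, rfl⟩ := ConnBC.range_chart f R hO.fromSpec hφ' K (x := w) (by rw [hO.range_fromSpec]; exact hwO)
  obtain ⟨_, ⟨a, rfl⟩, haP, ha⟩ := PrimeSpectrum.isTopologicalBasis_basic_opens.exists_subset_of_mem_open
    (show P ∈ c ⁻¹' N from hw) (hN.preimage c.continuous)
  have hdesc : ∀ a : R ⊗[k] K, ∃ S : Finset K, ∀ S', S ⊆ S' →
      a ∈ (Algebra.TensorProduct.map (AlgHom.id k R) (ConnBC.lev (k := k) K S').val).range := by
    intro a
    induction a using TensorProduct.induction_on with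
    | zero => exact ⟨∅, fun _ _ => zero_mem _⟩
    | tmul r b =>
      exact ⟨{b}, fun S' hS' => ⟨r ⊗ₜ ⟨b, IntermediateField.subset_adjoin k _ (hS' (Finset.mem_singleton_self b))⟩,
        by simp⟩⟩
    | add a b ha hb =>
      obtain ⟨S, hS⟩ := ha; obtain ⟨T, hT⟩ := hb
      exact ⟨S ∪ T, fun S' h' => add_mem (hS S' (Finset.union_subset_left h')) (hT S' (Finset.union_subset_right h'))⟩
  obtain ⟨S, hS⟩ := hdesc a
  obtain ⟨b, hb⟩ := hS S le_rfl
  refine ⟨S, c '' (PrimeSpectrum.basicOpen a : Set (PrimeSpectrum (R ⊗[k] K))), ?_, ⟨P, haP, rfl⟩,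
    Set.image_subset_iff.2 ha, ?_⟩
  · exact c.isOpenEmbedding.isOpenMap _ (PrimeSpectrum.basicOpen a).isOpen
  rintro _ ⟨Q, hQ, rfl⟩ z' hz
  have hpr : ConnBC.pr f K z' = ConnBC.pr f K (c Q) := by
    have h := congrArg (ConnBC.pr f (ConnBC.lev (k := k) K S)) hz
    rwa [← Scheme.Hom.comp_apply, ← Scheme.Hom.comp_apply, ConnBC.chg_fst] at h
  obtain ⟨Q', rfl⟩ := ConnBC.range_chart f R hO.fromSpec hφ' K (x := z') (by
    rw [hpr, ← Scheme.Hom.comp_apply, ConnBC.chart_fst, Scheme.Hom.comp_apply]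
    exact ⟨_, rfl⟩)
  refine ⟨Q', ?_, rfl⟩
  rw [← Scheme.Hom.comp_apply, ← Scheme.Hom.comp_apply, ConnBC.chart_chg, Scheme.Hom.comp_apply,
    Scheme.Hom.comp_apply] at hz
  have e := congrArg PrimeSpectrum.asIdeal
    ((ConnBC.chart f R hO.fromSpec hφ' (ConnBC.lev (k := k) K S)).isOpenEmbedding.injective hz)
  intro haQ
  refine hQ ?_
  rw [← hb] at haQ ⊢
  exact (SetLike.ext_iff.mp e b).mp haQ

end Level

variable {k : Type u} [Field k] {L K : Type u} [Field L] [Field K] [Algebra k L] [Algebra k K]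

/-- The map of base changes of points. -/
abbrev bcMap {F : Sp (B k)} (g : Ext k K ⟶ Ext k L) :
    Points (F ⨯ (yon (B k)).obj (Ext k K)) → Points (F ⨯ (yon (B k)).obj (Ext k L)) :=
  Points.map (prod.map (𝟙 F) ((yon (B k)).map g))

theorem bcMap_comp {F : Sp (B k)} {M : Type u} [Field M] [Algebra k M] (g : Ext k K ⟶ Ext k L) (h : Ext k L ⟶ Ext k M)
    (z : Points (F ⨯ (yon (B k)).obj (Ext k K))) : bcMap h (bcMap g z) = bcMap (g ≫ h) z := by
  rw [bcMap, bcMap, bcMap, ← Points.map_comp, prod.map_map, Category.id_comp, ← Functor.map_comp]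

theorem extHom_comp {M : Type u} [Field M] [Algebra k M] (φ : L →ₐ[k] K) (ψ : M →ₐ[k] L) :
    extHom φ ≫ extHom ψ = extHom (φ.comp ψ) :=
  Over.OverMorphism.ext (by
    show Spec.map _ ≫ Spec.map _ = Spec.map _
    rw [← Spec.map_comp]; rfl)

/-- The square of charts over a change of extension. -/
theorem isPullback_chart {F : Sp (B k)} {U : Over (B k)} (a : (yon (B k)).obj U ⟶ F) (g : Ext k K ⟶ Ext k L) :
    IsPullback ((yon (B k)).map (prod.map (𝟙 U) g)) (prodChart (S := B k) a (𝟙 ((yon (B k)).obj (Ext k K))))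
      (prodChart (S := B k) a (𝟙 ((yon (B k)).obj (Ext k L)))) (prod.map (𝟙 F) ((yon (B k)).map g)) := by
  refine IsPullback.of_iso (isPullback_prod_map a ((yon (B k)).map g))
    (PreservesLimitPair.iso (yon (B k)) U (Ext k K)).symm (PreservesLimitPair.iso (yon (B k)) U (Ext k L)).symm
    (Iso.refl _) (Iso.refl _) ?_ ?_ ?_ ?_
  · rw [← cancel_mono (PreservesLimitPair.iso (yon (B k)) U (Ext k L)).hom]
    apply Limits.prod.hom_ext
    · simp [← Functor.map_comp]
    · simp only [Category.assoc, Iso.symm_hom, Iso.inv_hom_id, Category.comp_id, prod.map_snd]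
      simp [← Functor.map_comp]
      rw [Functor.map_comp]
      rw [← Category.assoc]
      congr 1
      rw [Iso.eq_inv_comp]
      simp
  · simp [prodChart, -PreservesLimitPair.iso_hom]
  · simp [prodChart, -PreservesLimitPair.iso_hom]
  · simp

theorem exists_lift_point {F : Sp (B k)} {U : Over (B k)} {a : (yon (B k)).obj U ⟶ F} (g : Ext k K ⟶ Ext k L)
    (z : Points (F ⨯ (yon (B k)).obj (Ext k K))) (v : ↥(U ⨯ Ext k L).left)
    (h : bcMap g z = Points.ofPt (prodChart (S := B k) a (𝟙 ((yon (B k)).obj (Ext k L)))) v) :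
    ∃ w : ↥(U ⨯ Ext k K).left, (prod.map (𝟙 U) g).left w = v ∧
      Points.ofPt (prodChart (S := B k) a (𝟙 ((yon (B k)).obj (Ext k K)))) w = z := by
  obtain ⟨w, h1, h2⟩ := exists_point_isPullback (isPullback_chart a g) (Points.schemeHomeo _ v) z
    ((congrFun (ofPt_comp_ofScheme _) v).symm.trans h.symm)
  obtain ⟨w, rfl⟩ := (Points.schemeHomeo _).surjective w
  rw [Points.map_yon_map_apply] at h1
  exact ⟨w, (Points.schemeHomeo _).injective h1, (congrFun (ofPt_comp_ofScheme _) w).trans h2⟩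

theorem bcMap_ofPt {F : Sp (B k)} {U : Over (B k)} (a : (yon (B k)).obj U ⟶ F) (g : Ext k K ⟶ Ext k L)
    (w : ↥(U ⨯ Ext k K).left) :
    bcMap g (Points.ofPt (prodChart (S := B k) a (𝟙 ((yon (B k)).obj (Ext k K)))) w) =
      Points.ofPt (prodChart (S := B k) a (𝟙 ((yon (B k)).obj (Ext k L)))) ((prod.map (𝟙 U) g).left w) := by
  rw [bcMap, Points.map_ofPt, ← (isPullback_chart a g).w, ofPt_yon_comp]

/-- Integral changes of the field are closed on points. -/
theorem isClosedMap_bc {F : Sp (B k)} (hF : IsAlgSpace F) (φ : L →ₐ[k] K) (hφ : φ.toRingHom.IsIntegral) :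
    IsClosedMap (bcMap (F := F) (extHom φ)) := by
  intro T hT
  obtain ⟨U, a, ha, has⟩ := hF.atlas
  let c := prodChart (S := B k) a (𝟙 ((yon (B k)).obj (Ext k L)))
  let c' := prodChart (S := B k) a (𝟙 ((yon (B k)).obj (Ext k K)))
  have hq := (isOpenMap_ofPt_prodChart (b := 𝟙 ((yon (B k)).obj (Ext k L))) ha (repWith_id_yon _ _)).isQuotientMap
    (Points.continuous_ofPt c) (surjective_ofPt_prodChart has (repWith_id_yon _ _))
  let m : U ⨯ Ext k K ⟶ U ⨯ Ext k L := prod.map (𝟙 U) (extHom φ)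
  haveI : IsIntegralHom (extHom φ).left :=
    (IsIntegralHom.SpecMap_iff (φ := CommRingCat.ofHom φ.toRingHom)).mpr hφ
  haveI : IsIntegralHom m.left :=
    MorphismProperty.of_isPullback (P := @IsIntegralHom) (isPullback_map_left U (extHom φ)).flip inferInstance
  rw [← hq.isClosed_preimage]
  have e : Points.ofPt c ⁻¹' (bcMap (extHom φ) '' T) = m.left '' (Points.ofPt c' ⁻¹' T) := by
    ext v
    constructor
    · rintro ⟨z, hz, e⟩
      obtain ⟨w, h1, h2⟩ := exists_lift_point (extHom φ) z v e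
      exact ⟨w, by rw [Set.mem_preimage, h2]; exact hz, h1⟩
    · rintro ⟨w, hw, rfl⟩
      exact ⟨_, hw, bcMap_ofPt a (extHom φ) w⟩
  rw [e]
  exact m.left.isClosedMap _ (hT.preimage (Points.continuous_ofPt c'))

section Galois

variable [Algebra L K] [IsScalarTower k L K]

/-- The projection to the base changed space over `L`. -/
abbrev down (k L K : Type u) [Field k] [Field L] [Field K] [Algebra k L] [Algebra k K] [Algebra L K]
    [IsScalarTower k L K] : Ext k K ⟶ Ext k L := extHom (IsScalarTower.toAlgHom k L K)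

theorem galois_transitive [Normal L K] {F : Sp (B k)} (hF : IsAlgSpace F)
    (z z' : Points (F ⨯ (yon (B k)).obj (Ext k K))) (h : bcMap (down k L K) z = bcMap (down k L K) z') :
    ∃ σ : K ≃ₐ[L] K, bcMap (extHom ((σ : K →ₐ[L] K).restrictScalars k)) z = z' := by
  obtain ⟨U, a, ha, has⟩ := hF.atlas
  let g := down k L K
  obtain ⟨v, hv⟩ := surjective_ofPt_prodChart (b := 𝟙 ((yon (B k)).obj (Ext k L))) has (repWith_id_yon _ _)
    (bcMap g z)
  obtain ⟨w, hw, rfl⟩ := exists_lift_point g z v hv.symm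
  obtain ⟨w', hw', rfl⟩ := exists_lift_point g z' v (h.symm.trans hv.symm)
  let f : (U ⨯ Ext k L).left ⟶ Spec (CommRingCat.of L) := (prod.snd : U ⨯ Ext k L ⟶ Ext k L).left
  let e : (U ⨯ Ext k K).left ≅ pullback f (Spec.map (CommRingCat.ofHom (algebraMap L K))) :=
    (isPullback_map_left U g).isoPullback
  have he₁ : e.hom ≫ pullback.fst _ _ = (prod.map (𝟙 U) g).left := (isPullback_map_left U g).isoPullback_hom_fst
  have he₂ : e.hom ≫ pullback.snd _ _ = (prod.snd : U ⨯ Ext k K ⟶ Ext k K).left :=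
    (isPullback_map_left U g).isoPullback_hom_snd
  obtain ⟨σ, hσ⟩ := GalTwLib.exists_act_apply (K := K) f (x := e.hom w) (y := e.hom w') (by
    rw [← Scheme.Hom.comp_apply, ← Scheme.Hom.comp_apply, he₁, hw, hw'])
  refine ⟨σ, ?_⟩
  rw [bcMap_ofPt]
  congr 1
  let s : Ext k K ⟶ Ext k K := extHom ((σ : K →ₐ[L] K).restrictScalars k)
  have hs : s ≫ g = g := by
    rw [extHom_comp]
    congr 1
    ext x
    exact σ.commutes x
  have hcomm : (prod.map (𝟙 U) s).left ≫ e.hom = e.hom ≫ GalTwLib.act f σ := by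
    apply pullback.hom_ext
    · rw [Category.assoc, Category.assoc, GalTwLib.act_fst, he₁, ← Over.comp_left, prod.map_map, hs, Category.id_comp]
    · rw [Category.assoc, Category.assoc, GalTwLib.act_snd, he₂, reassoc_of% he₂, ← Over.comp_left, prod.map_snd]
      rfl
  refine e.hom.homeomorph.injective ?_
  show e.hom ((prod.map (𝟙 U) s).left w) = e.hom w'
  rw [← Scheme.Hom.comp_apply, hcomm, Scheme.Hom.comp_apply, hσ]

theorem preimage_image_of_stable [Normal L K] {F : Sp (B k)} (hF : IsAlgSpace F)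
    {T : Set (Points (F ⨯ (yon (B k)).obj (Ext k K)))}
    (h : ∀ σ : K ≃ₐ[L] K, ∀ z ∈ T, bcMap (extHom ((σ : K →ₐ[L] K).restrictScalars k)) z ∈ T) :
    bcMap (down k L K) ⁻¹' (bcMap (down k L K) '' T) = T := by
  refine Set.Subset.antisymm ?_ (Set.subset_preimage_image _ _)
  rintro z' ⟨z, hz, e⟩
  obtain ⟨σ, rfl⟩ := galois_transitive hF z z' e
  exact h σ z hz

end Galois

theorem extHom_inclusion {E E' : IntermediateField k K} (h : E ≤ E') :
    extHom E.val = extHom E'.val ≫ extHom (IntermediateField.inclusion h) := by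
  rw [extHom_comp]; rfl

/-- Quasi-compact opens are saturated over a finitely generated subextension. -/
theorem exists_level {F : Sp (B k)} (hF : IsAlgSpace F) {V : Set (Points (F ⨯ (yon (B k)).obj (Ext k K)))}
    (hV : IsOpen V) (hVc : IsCompact V) :
    ∃ S : Finset K, bcMap (extHom (ConnBC.lev (k := k) K S).val) ⁻¹'
      (bcMap (extHom (ConnBC.lev (k := k) K S).val) '' V) = V := by
  classical
  obtain ⟨U, a, ha, has⟩ := hF.atlas
  let c := prodChart (S := B k) a (𝟙 ((yon (B k)).obj (Ext k K)))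
  have hco : IsOpenMap (Points.ofPt c) := isOpenMap_ofPt_prodChart ha (repWith_id_yon _ _)
  have key : ∀ w : ↥(U ⨯ Ext k K).left, Points.ofPt c w ∈ V → ∃ (S : Finset K) (W : Set ↥(U ⨯ Ext k K).left),
      IsOpen W ∧ w ∈ W ∧ Points.ofPt c '' W ⊆ V ∧
      ∀ z ∈ W, ∀ z', (prod.map (𝟙 U) (extHom (ConnBC.lev (k := k) K S).val)).left z' =
        (prod.map (𝟙 U) (extHom (ConnBC.lev (k := k) K S).val)).left z → z' ∈ W := by
    intro w hw
    let e := (isPullback_prod_left U (Ext k K)).isoPullback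
    obtain ⟨S, W, hWo, hwW, hWN, hsat⟩ := exists_saturated_nhd U.hom
      (w := e.hom w) (N := e.inv ⁻¹' (Points.ofPt c ⁻¹' V)) ((hV.preimage (Points.continuous_ofPt c)).preimage e.inv.continuous)
      (by
        show Points.ofPt c (e.inv (e.hom w)) ∈ V
        rw [← Scheme.Hom.comp_apply, e.hom_inv_id]; exact hw)
    refine ⟨S, e.hom ⁻¹' W, hWo.preimage e.hom.continuous, hwW, ?_, fun z hz z' h => hsat _ hz _ ?_⟩
    · rintro _ ⟨z, hz, rfl⟩
      have h' : Points.ofPt c (e.inv (e.hom z)) ∈ V := hWN hz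
      rwa [← Scheme.Hom.comp_apply, e.hom_inv_id] at h'
    · let e' := (isPullback_prod_left U (Ext k (ConnBC.lev (k := k) K S))).isoPullback
      have hc : e.hom ≫ ConnBC.chg U.hom (ConnBC.lev (k := k) K S).val =
          (prod.map (𝟙 U) (extHom (ConnBC.lev (k := k) K S).val)).left ≫ e'.hom := by
        apply pullback.hom_ext
        · rw [Category.assoc, Category.assoc, ConnBC.chg_fst]
          erw [IsPullback.isoPullback_hom_fst, IsPullback.isoPullback_hom_fst]
          rw [← Over.comp_left, prod.map_fst, Category.comp_id]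
        · rw [Category.assoc, Category.assoc, ConnBC.chg_snd]
          erw [IsPullback.isoPullback_hom_snd, reassoc_of% (isPullback_prod_left U (Ext k K)).isoPullback_hom_snd]
          rw [← Over.comp_left, prod.map_snd]
          rfl
      show (e.hom ≫ ConnBC.chg U.hom (ConnBC.lev (k := k) K S).val) z' =
        (e.hom ≫ ConnBC.chg U.hom (ConnBC.lev (k := k) K S).val) z
      rw [hc, Scheme.Hom.comp_apply, Scheme.Hom.comp_apply, h]
  choose S W hWo hwW hWV hsat using key
  obtain ⟨t, ht⟩ := hVc.elim_finite_subcover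
    (fun w : {w // Points.ofPt c w ∈ V} => Points.ofPt c '' W w.1 w.2) (fun w => hco _ (hWo w.1 w.2)) (fun z hz => by
      obtain ⟨w, rfl⟩ := surjective_ofPt_prodChart (b := 𝟙 ((yon (B k)).obj (Ext k K))) has (repWith_id_yon _ _) z
      exact Set.mem_iUnion.2 ⟨⟨w, hz⟩, w, hwW w hz, rfl⟩)
  let S₀ := t.biUnion fun w => S w.1 w.2
  refine ⟨S₀, Set.Subset.antisymm ?_ (Set.subset_preimage_image _ _)⟩
  rintro z' ⟨z, hz, e⟩
  obtain ⟨w, hwt, x, hx, rfl⟩ := Set.mem_iUnion₂.1 (ht hz)
  have hle : ConnBC.lev (k := k) K (S w.1 w.2) ≤ ConnBC.lev (k := k) K S₀ :=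
    IntermediateField.adjoin.mono k _ _ (Finset.coe_subset.2 (Finset.subset_biUnion_of_mem (fun w => S w.1 w.2) hwt))
  have e' : bcMap (extHom (ConnBC.lev (k := k) K (S w.1 w.2)).val) (Points.ofPt c x) =
      bcMap (extHom (ConnBC.lev (k := k) K (S w.1 w.2)).val) z' := by
    rw [extHom_inclusion hle, ← bcMap_comp, ← bcMap_comp, e]
  rw [bcMap_ofPt] at e'
  obtain ⟨x', hx', rfl⟩ := exists_lift_point _ z' _ e'.symm
  exact hWV w.1 w.2 ⟨x', hsat w.1 w.2 x hx x' hx', rfl⟩

theorem exists_isOpen_subgroup_stable [Algebra.IsAlgebraic k K] {F : Sp (B k)} (hF : IsAlgSpace F)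
    {V : Set (Points (F ⨯ (yon (B k)).obj (Ext k K)))} (hV : IsOpen V) (hVc : IsCompact V) :
    ∃ H : Subgroup (K ≃ₐ[k] K), IsOpen (H : Set (K ≃ₐ[k] K)) ∧
      ∀ σ ∈ H, bcMap (extHom (σ : K →ₐ[k] K)) '' V = V := by
  obtain ⟨S, hS⟩ := exists_level hF hV hVc
  haveI : FiniteDimensional k (ConnBC.lev (k := k) K S) :=
    IntermediateField.finiteDimensional_adjoin fun x _ => (Algebra.IsAlgebraic.isAlgebraic x).isIntegral
  refine ⟨(ConnBC.lev (k := k) K S).fixingSubgroup, IntermediateField.fixingSubgroup_isOpen _, fun σ hσ => ?_⟩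
  have hg : ∀ τ : K ≃ₐ[k] K, τ ∈ (ConnBC.lev (k := k) K S).fixingSubgroup →
      bcMap (F := F) (extHom (τ : K →ₐ[k] K)) '' V ⊆ V := by
    rintro τ hτ _ ⟨z, hz, rfl⟩
    refine hS.le ⟨z, hz, ?_⟩
    rw [bcMap_comp, extHom_comp]
    congr 2
    ext x
    exact ((IntermediateField.mem_fixingSubgroup_iff _ τ).1 hτ x x.2).symm
  refine (hg σ hσ).antisymm fun z hz => ⟨bcMap (extHom (σ.symm : K →ₐ[k] K)) z,
    hg σ.symm (inv_mem hσ) ⟨z, hz, rfl⟩, ?_⟩
  rw [bcMap_comp, extHom_comp]
  have e : ((σ.symm : K →ₐ[k] K)).comp (σ : K →ₐ[k] K) = AlgHom.id k K := by ext x; simp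
  rw [e]
  have h1 : extHom (AlgHom.id k K) = 𝟙 (Ext k K) := Over.OverMorphism.ext (Spec.map_id _)
  rw [h1, bcMap, CategoryTheory.Functor.map_id, prod.map_id_id, Points.map_id]

theorem isClosedMap_fst_field [Algebra.IsAlgebraic k K] {F : Sp (B k)} (hF : IsAlgSpace F) :
    IsClosedMap (Points.map (prod.fst : F ⨯ (yon (B k)).obj (Ext k K) ⟶ F)) := by
  rw [fst_eq]
  exact ((Equiv.ofBijective _ (bijective_fst F)).toHomeomorphOfContinuousOpen (Points.continuous_map _)
    (isOpenMap_fst hF (IsAlgSpace.yon_obj _))).isClosedMap.comp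
    (isClosedMap_bc hF (Algebra.ofId k K) (algebraMap_isIntegral_iff.mpr inferInstance))

theorem map_fst_bcMap {F : Sp (B k)} (g : Ext k K ⟶ Ext k L) (z : Points (F ⨯ (yon (B k)).obj (Ext k K))) :
    Points.map prod.fst (bcMap g z) = Points.map prod.fst z := by
  rw [bcMap, ← Points.map_comp, prod.map_fst, Category.comp_id]

/-- Every point of `X` has an open neighbourhood with quasi-compact inverse image in `X_K`. -/
theorem exists_compact_preimage_fst {F : Sp (B k)} (hF : IsAlgSpace F) (x : Points F) :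
    ∃ O : Set (Points F), IsOpen O ∧ x ∈ O ∧
      IsCompact (Points.map (prod.fst : F ⨯ (yon (B k)).obj (Ext k K) ⟶ F) ⁻¹' O) := by
  obtain ⟨U, a, ha, has⟩ := hF.atlas
  obtain ⟨u, rfl⟩ := surjective_ofPt has x
  obtain ⟨_, ⟨O, hO, rfl⟩, huO, -⟩ := U.left.isBasis_affineOpens.exists_subset_of_mem_open
    (Set.mem_univ u) isOpen_univ
  replace hO : IsAffineOpen O := hO
  refine ⟨Points.ofPt a '' O, isOpenMap_ofPt ha _ O.isOpen, ⟨u, huO, rfl⟩, ?_⟩
  let c := prodChart (S := B k) a (𝟙 ((yon (B k)).obj (Ext k K)))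
  let q : (U ⨯ Ext k K).left ⟶ U.left := (prod.fst : U ⨯ Ext k K ⟶ U).left
  haveI : IsAffineHom q :=
    MorphismProperty.of_isPullback (P := @IsAffineHom) (isPullback_prod_left U (Ext k K)).flip inferInstance
  have hc : ∀ w, Points.map prod.fst (Points.ofPt c w) = Points.ofPt a (q w) := fun w => by
    rw [Points.map_ofPt, prodChart_fst, ofPt_yon_comp]
  have e : Points.map (prod.fst : F ⨯ (yon (B k)).obj (Ext k K) ⟶ F) ⁻¹' (Points.ofPt a '' O) =
      Points.ofPt c '' ((q ⁻¹ᵁ O : (U ⨯ Ext k K).left.Opens) : Set ↥(U ⨯ Ext k K).left) := by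
    ext z
    constructor
    · rintro ⟨v, hv, e⟩
      let l : U ⟶ U ⨯ Ext k k := prod.lift (𝟙 U) ((isTerminalExt k).from U)
      have hl : (prod.fst : U ⨯ Ext k k ⟶ U).left (l.left v) = v := by
        rw [← Scheme.Hom.comp_apply, ← Over.comp_left, prod.lift_fst]; rfl
      have h0 : Points.ofPt (prodChart (S := B k) a (𝟙 ((yon (B k)).obj (Ext k k)))) (l.left v) =
          bcMap (extHom (Algebra.ofId k K)) z := by
        refine (bijective_fst F).1 ?_
        rw [map_fst_bcMap, ← e, Points.map_ofPt, prodChart_fst, ofPt_yon_comp, hl]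
      obtain ⟨w, hw, rfl⟩ := exists_lift_point (extHom (Algebra.ofId k K)) z (l.left v) h0.symm
      refine ⟨w, ?_, rfl⟩
      show q w ∈ O
      have : q w = v := by
        rw [← hl, ← hw, ← Scheme.Hom.comp_apply, ← Over.comp_left, prod.map_fst, Category.comp_id]
      rwa [this]
    · rintro ⟨w, hw, rfl⟩
      exact ⟨q w, hw, (hc w).symm⟩
  rw [e]
  exact (hO.preimage q).isCompact.image (Points.continuous_ofPt c)

/-- Connectedness over a Galois extension is detected on finite subextensions. -/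
theorem connectedSpace_of_finite_levels [IsGalois k K] {F : Sp (B k)} (hF : IsAlgSpace F)
    (h : ∀ E : IntermediateField k K, FiniteDimensional k E →
      ConnectedSpace (Points (F ⨯ (yon (B k)).obj (Ext k E)))) :
    ConnectedSpace (Points (F ⨯ (yon (B k)).obj (Ext k K))) := by
  haveI := h ⊥ inferInstance
  haveI : ConnectedSpace (Points F) :=
    (surjective_fst (K := (⊥ : IntermediateField k K)) F).connectedSpace (Points.continuous_map _)
  obtain ⟨z₀, -⟩ := surjective_fst (K := K) F (Classical.arbitrary _)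
  haveI : Nonempty (Points (F ⨯ (yon (B k)).obj (Ext k K))) := ⟨z₀⟩
  suffices PreconnectedSpace (Points (F ⨯ (yon (B k)).obj (Ext k K))) from { toNonempty := ⟨z₀⟩ }
  refine preconnectedSpace_iff_clopen.2 fun E hE => ?_
  let π := Points.map (prod.fst : F ⨯ (yon (B k)).obj (Ext k K) ⟶ F)
  obtain ⟨O, hO, hx, hOc⟩ := exists_compact_preimage_fst (K := K) hF (π z₀)
  obtain ⟨S, hS⟩ := exists_level hF (hE.isOpen.inter (hO.preimage (Points.continuous_map _)))
    (hOc.inter_left hE.isClosed)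
  let L₀ := ConnBC.lev (k := k) K S
  have hfin : FiniteDimensional k L₀ :=
    IntermediateField.finiteDimensional_adjoin fun x _ => (Algebra.IsAlgebraic.isAlgebraic x).isIntegral
  haveI := h L₀ hfin
  have hstab : ∀ τ : K →ₐ[k] K, (∀ x : L₀, τ x = x) → ∀ z, (bcMap (extHom τ) z ∈ E ↔ z ∈ E) := by
    intro τ hτ
    by_contra hne
    push Not at hne
    obtain ⟨z₁, hz₁⟩ := hne
    let D := symmDiff (bcMap (extHom τ) ⁻¹' E) E
    have hD : IsClopen D := by
      simp only [D, Set.symmDiff_def]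
      exact ((hE.preimage (Points.continuous_map _)).diff hE).union (hE.diff (hE.preimage (Points.continuous_map _)))
    have hπD : IsClopen (π '' D) :=
      ⟨isClosedMap_fst_field hF _ hD.isClosed, isOpenMap_fst hF (IsAlgSpace.yon_obj _) _ hD.isOpen⟩
    have hz₁D : z₁ ∈ D := by
      simp only [D, Set.mem_symmDiff, Set.mem_preimage]; tauto
    rcases isClopen_iff.1 hπD with h0 | h0
    · exact Set.eq_empty_iff_forall_notMem.1 h0 _ ⟨z₁, hz₁D, rfl⟩
    obtain ⟨z, hz, e⟩ := h0.symm.le (Set.mem_univ (π z₀))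
    have hzO : π z ∈ O := by rwa [e]
    have hτO : π (bcMap (extHom τ) z) ∈ O := by
      show Points.map prod.fst _ ∈ O
      rwa [map_fst_bcMap]
    have key : bcMap (extHom L₀.val) (bcMap (extHom τ) z) = bcMap (extHom L₀.val) z := by
      rw [bcMap_comp, extHom_comp]
      congr 2
      ext x
      exact hτ x
    have h1 := Set.ext_iff.1 hS (bcMap (extHom τ) z)
    have h2 := Set.ext_iff.1 hS z
    rw [Set.mem_preimage, key] at h1
    have h3 := h2.symm.trans h1
    simp only [D, Set.mem_symmDiff, Set.mem_preimage] at hz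
    have h4 : z ∈ E ↔ bcMap (extHom τ) z ∈ E :=
      ⟨fun hh => (h3.1 ⟨hh, hzO⟩).1, fun hh => (h3.2 ⟨hh, hτO⟩).1⟩
    tauto
  let g := bcMap (F := F) (down k L₀ K)
  have hgs : Function.Surjective g := surjective_bc _
  have hdis : ∀ z ∈ E, ∀ z' ∉ E, g z ≠ g z' := fun z hz z' hz' e => by
    obtain ⟨σ, rfl⟩ := galois_transitive hF z z' e
    exact hz' ((hstab _ (fun x => σ.commutes x) z).2 hz)
  have hcompl : g '' Eᶜ = (g '' E)ᶜ := by
    refine Set.Subset.antisymm ?_ fun y hy => ?_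
    · rintro _ ⟨z', hz', rfl⟩ ⟨z, hz, e⟩
      exact hdis z hz z' hz' e
    · obtain ⟨z, rfl⟩ := hgs y
      exact ⟨z, fun hz => hy ⟨z, hz, rfl⟩, rfl⟩
  have hc : IsClopen (g '' E) :=
    ⟨isOpen_compl_iff.1 (hcompl ▸ isOpenMap_bc hF _ _ hE.compl.isOpen), isOpenMap_bc hF _ _ hE.isOpen⟩
  rcases isClopen_iff.1 hc with h0 | h0
  · exact Or.inl (Set.image_eq_empty.1 h0)
  · have : g '' Eᶜ = ∅ := by rw [hcompl, h0, Set.compl_univ]
    exact Or.inr (Set.compl_empty_iff.1 (Set.image_eq_empty.1 this))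

end AlgSpFieldLib
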