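import Groth.Prelude.Def_AlgSpGpd
import Groth.Agent.AlgSpFieldLib.SpreadField
import Groth.Agent.SpectralQuot.SchematicLocus
import Groth.Agent.AlgSpLib.DecentPoints
import Mathlib.RingTheory.Jacobson.Ring
import Mathlib.CategoryTheory.Monoidal.Cartesian.Over

/-!
# Group spaces over a field are schematic over an algebraically closed field
-/

set_option autoImplicit false
set_option linter.style.haveILetI false
set_option backward.isDefEq.respectTransparency false
set_option backward.isDefEq.respectTransparency.types false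
set_option maxHeartbeats 400000
set_option synthInstance.maxHeartbeats 100000

universe u

open CategoryTheory CategoryTheory.Limits AlgebraicGeometry TopologicalSpace Opposite Topology
open AlgSp AlgSpLib Groth.Agent.MonoPtLib SpectralQuot
open MonoidalCategory CartesianMonoidalCategory MonObj

noncomputable section

namespace AlgSpFieldLib

variable {k : Type u} [Field k] {L M : Type u} [Field L] [Field M] [Algebra k L] [Algebra k M]

/-- The point of the spectrum of a field. -/
abbrev pt (k : Type u) [Field k] (M : Type u) [Field M] [Algebra k M] : Points ((yon (B k)).obj (Ext k M)) :=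
  Points.schemeHomeo (Ext k M) default

theorem exists_field_point {F : Sp (B k)} (z : Points F) :
    ∃ (M : Type u) (_ : Field M) (_ : Algebra k M) (p : (yon (B k)).obj (Ext k M) ⟶ F),
      Points.map p (pt k M) = z := by
  obtain ⟨T, a, t, rfl⟩ := AlgSpLib.exists_ofPt_eq z
  let φ := Spec.preimage (T.left.fromSpecResidueField t ≫ T.hom)
  letI : Algebra k (T.left.residueField t) := φ.hom.toAlgebra
  have hw : T.left.fromSpecResidueField t ≫ T.hom =
      Spec.map (CommRingCat.ofHom (algebraMap k (T.left.residueField t))) := (Spec.map_preimage _).symm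
  let q : Ext k (T.left.residueField t) ⟶ T := Over.homMk (T.left.fromSpecResidueField t) hw
  refine ⟨T.left.residueField t, inferInstance, inferInstance, (yon (B k)).map q ≫ a, ?_⟩
  rw [Points.map_comp, Points.map_yon_map_apply]
  refine (Points.ofPt_eq_map_ofScheme a _).symm.trans ?_
  congr 1
  exact Scheme.fromSpecResidueField_apply t _

theorem exists_common_field (M' M'' : Type u) [Field M'] [Field M''] [Algebra k M'] [Algebra k M''] :
    ∃ (M : Type u) (_ : Field M) (_ : Algebra k M), Nonempty (M' →ₐ[k] M) ∧ Nonempty (M'' →ₐ[k] M) := by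
  haveI : Nontrivial (TensorProduct k M' M'') :=
    (Algebra.TensorProduct.includeLeft_injective (R := k) (S := k) (A := M') (B := M'')
      (algebraMap k M'').injective).nontrivial
  obtain ⟨m, hm⟩ := Ideal.exists_maximal (TensorProduct k M' M'')
  exact ⟨TensorProduct k M' M'' ⧸ m, Ideal.Quotient.field m, inferInstance,
    ⟨(Ideal.Quotient.mkₐ k m).comp Algebra.TensorProduct.includeLeft⟩,
    ⟨(Ideal.Quotient.mkₐ k m).comp Algebra.TensorProduct.includeRight⟩⟩

theorem repWith_fst_affine (X : Sp (B k)) (V : Over (B k)) [IsAffine V.left] :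
    RepWith @IsAffineHom (prod.fst : X ⨯ (yon (B k)).obj V ⟶ X) := by
  let hY : IsTerminal ((yon (B k)).obj (Over.mk (𝟙 (B k)))) :=
    (Over.mkIdTerminal (X := B k)).isTerminalObj (yon (B k)) _
  haveI : IsAffine (Over.mk (𝟙 (B k))).left := inferInstanceAs (IsAffine (Spec (CommRingCat.of k)))
  have sq : IsPullback (prod.fst : X ⨯ (yon (B k)).obj V ⟶ X) prod.snd (hY.from X) (hY.from _) :=
    IsPullback.of_is_product' (prodIsProd X ((yon (B k)).obj V)) hY
  refine AlgSpLib.repWith_of_isPullback sq.flip ?_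
  rw [hY.hom_ext (hY.from _) ((yon (B k)).map (Over.homMk V.hom (Category.comp_id _) : V ⟶ Over.mk (𝟙 (B k))))]
  exact (repWith_yon_map_iff _ _).2 (isAffineHom_of_isAffine _)

section Descend

variable [IsAlgClosed L] [Algebra L M] [IsScalarTower k L M]

theorem exists_schematic_nhd_descend_qc {O : Sp (B k)} (hO : IsAlgSpace O) (hqc : IsQuasiCompactSp O)
    (hqs : IsQuasiSeparatedSp O) (V : Over (B k)) [IsAffine V.left]
    (j : (yon (B k)).obj V ⟶ O ⨯ (yon (B k)).obj (Ext k M)) (hj : RepWith @IsOpenImmersion j)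
    (z : Points (O ⨯ (yon (B k)).obj (Ext k M))) (hz : z ∈ Set.range (Points.map j)) :
    ∃ (W : Over (B k)) (f : (yon (B k)).obj W ⟶ O ⨯ (yon (B k)).obj (Ext k L)),
      RepWith @IsOpenImmersion f ∧ bcMap (down k L M) z ∈ Set.range (Points.map f) := by
  classical
  let J := (ConsLib.FGSub L M)ᵒᵖ
  let sys := ConsLib.fgSys L M (Iso.refl (Spec (CommRingCat.of L)))
  let N : J ⥤ Over (B k) :=
    { obj := fun j => Over.mk (Spec.map (CommRingCat.ofHom (algebraMap k j.unop.1)))
      map := fun {i j} φ => Over.homMk (sys.D.map φ) (by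
        show Spec.map ((ConsLib.fgDiag L M).map φ.unop) ≫ Spec.map _ = Spec.map _
        rw [← Spec.map_comp]
        rfl)
      map_id := fun j => Over.OverMorphism.ext (sys.D.map_id j)
      map_comp := fun φ ψ => Over.OverMorphism.ext (sys.D.map_comp φ ψ) }
  let cN : Cone N :=
    { pt := Ext k M
      π :=
        { app := fun j => Over.homMk (sys.c.π.app j) (by
            show Spec.map (CommRingCat.ofHom j.unop.1.val.toRingHom) ≫ Spec.map _ = Spec.map _
            rw [← Spec.map_comp, ← CommRingCat.ofHom_comp]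
            rfl)
          naturality := fun i j φ => Over.OverMorphism.ext (sys.c.π.naturality φ) } }
  let co : ∀ s : Cone N, Cone sys.D := fun s =>
    { pt := s.pt.left
      π := { app := fun j => (s.π.app j).left
             naturality := fun i j φ => by
              show 𝟙 _ ≫ (s.π.app j).left = (s.π.app i).left ≫ sys.D.map φ
              rw [Category.id_comp]
              exact congrArg CommaMorphism.left (s.w φ).symm } }
  let j₀ : J := op ⟨⊥, Subalgebra.fg_bot⟩
  have hcN : IsLimit cN :=
    { lift := fun s => Over.homMk (sys.hc.lift (co s)) (by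
        exact (congrArg (fun m : cN.pt.left ⟶ B k => sys.hc.lift (co s) ≫ m) (Over.w (cN.π.app j₀)).symm).trans
          ((Category.assoc _ _ _).symm.trans ((congrArg (fun m : s.pt.left ⟶ (N.obj j₀).left => m ≫ (N.obj j₀).hom)
            (sys.hc.fac (co s) j₀)).trans (Over.w (s.π.app j₀)))))
      fac := fun s j => Over.OverMorphism.ext (sys.hc.fac (co s) j)
      uniq := fun s m hm => Over.OverMorphism.ext (sys.hc.uniq (co s) m.left fun j =>
        congrArg CommaMorphism.left (hm j)) }
  have hyN := isLimitOfPreserves (yon (B k)) hcN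
  haveI : ∀ i : J, IsAffine (N.obj i).left := fun i => inferInstanceAs (IsAffine (Spec (CommRingCat.of i.unop.1)))
  let D : J ⥤ Sp (B k) :=
    { obj := fun i => O ⨯ (yon (B k)).obj (N.obj i)
      map := fun φ => prod.map (𝟙 O) ((yon (B k)).map (N.map φ))
      map_id := fun i => by simp
      map_comp := fun φ ψ => by simp }
  let c : Cone D :=
    { pt := O ⨯ (yon (B k)).obj (Ext k M)
      π :=
        { app := fun i => prod.map (𝟙 O) ((yon (B k)).map (cN.π.app i))
          naturality := fun i i' φ => by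
            show 𝟙 _ ≫ prod.map _ _ = prod.map _ _ ≫ prod.map _ _
            rw [Category.id_comp, prod.map_map, ← Functor.map_comp, cN.w, Category.comp_id] } }
  let sy : ∀ s : Cone D, Cone (N ⋙ yon (B k)) := fun s =>
    { pt := s.pt
      π := { app := fun i => s.π.app i ≫ prod.snd
             naturality := fun i i' φ => by
              show 𝟙 _ ≫ s.π.app i' ≫ prod.snd = (s.π.app i ≫ prod.snd) ≫ (yon (B k)).map (N.map φ)
              rw [Category.id_comp, ← s.w φ, Category.assoc, Category.assoc, prod.map_snd] } }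
  have hfst : ∀ (s : Cone D) (i i' : J), s.π.app i ≫ prod.fst = s.π.app i' ≫ prod.fst := fun s i i' => by
    have h : ∀ {a b : J} (φ : a ⟶ b), s.π.app b ≫ prod.fst = s.π.app a ≫ prod.fst := fun {a b} φ => by
      rw [← s.w φ, Category.assoc, prod.map_fst, Category.comp_id]
    exact (h (IsCofiltered.minToLeft i i')).trans (h (IsCofiltered.minToRight i i')).symm
  have hc : IsLimit c :=
    { lift := fun s => prod.lift (s.π.app j₀ ≫ prod.fst) (hyN.lift (sy s))
      fac := fun s i => by
        apply Limits.prod.hom_ext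
        · show (prod.lift _ _ ≫ prod.map _ _) ≫ _ = _
          rw [Category.assoc, prod.map_fst, Category.comp_id, prod.lift_fst]
          exact hfst s j₀ i
        · show (prod.lift _ _ ≫ prod.map _ _) ≫ _ = _
          rw [Category.assoc, prod.map_snd, prod.lift_snd_assoc]
          exact hyN.fac (sy s) i
      uniq := fun s m hm => by
        apply Limits.prod.hom_ext
        · rw [prod.lift_fst, ← hm j₀]
          show _ = (m ≫ prod.map _ _) ≫ _
          rw [Category.assoc, prod.map_fst, Category.comp_id]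
        · rw [prod.lift_snd]
          refine hyN.uniq (sy s) (m ≫ prod.snd) fun i => ?_
          show (m ≫ prod.snd) ≫ _ = s.π.app i ≫ prod.snd
          rw [← hm i]
          show _ = (m ≫ prod.map _ _) ≫ _
          rw [Category.assoc, Category.assoc, prod.map_snd]
          rfl }
  have hDA : ∀ i, IsAlgSpace (D.obj i) := fun i =>
    AlgSpLib.isAlgSpace_of_representable hO prod.fst (representable_fst O (N.obj i))
  obtain ⟨i, V', hV', a, qv, ha, sq⟩ := exists_affine_open_stage D hDA
    (fun i i' φ => AlgSpLib.isAffineMor_iff.2 (repWith_bcMap_affine O (N.map φ)))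
    (fun i => AlgSpLib.isQuasiCompactSp_of_mor hO
      (AlgSpLib.isQuasiCompactMor_of_repWith (hDA i) hO
        (AlgSpLib.repWith_mono (fun _ _ g (_ : IsAffineHom g) => (inferInstance : QuasiCompact g))
          (repWith_fst_affine O (N.obj i)))) hqc)
    (fun i => AlgSpLib.isQuasiSeparatedSp_of_mor (AlgSpLib.isQuasiSeparatedMor_of_isSeparatedMor
      (AlgSpLib.isSeparatedMor_of_repWith
        (AlgSpLib.repWith_mono (fun _ _ g (_ : IsAffineHom g) => (inferInstance : IsSeparated g))
          (repWith_fst_affine O (N.obj i))))) hqs)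
    c hc V inferInstance j hj
  obtain ⟨w₀, rfl⟩ := hz
  let πN : N.obj i ⟶ Ext k L := Over.homMk (Spec.map (CommRingCat.ofHom (algebraMap L i.unop.1))) (by
    show Spec.map _ ≫ Spec.map _ = Spec.map _
    rw [← Spec.map_comp, ← CommRingCat.ofHom_comp, ← IsScalarTower.algebraMap_eq])
  have hdown : cN.π.app i ≫ πN = down k L M := Over.OverMorphism.ext (by
    show Spec.map (CommRingCat.ofHom i.unop.1.val.toRingHom) ≫ Spec.map _ = Spec.map _
    rw [← Spec.map_comp, ← CommRingCat.ofHom_comp]
    rfl)
  let zi := Points.map (c.π.app i) (Points.map j w₀)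
  have hzi : zi ∈ Set.range (Points.map a) := ⟨Points.map qv w₀, by
    rw [← Points.map_comp, ← sq.w, Points.map_comp]⟩
  let y := bcMap (down k L M) (Points.map j w₀)
  have hziy : Points.map (prod.map (𝟙 O) ((yon (B k)).map πN)) zi = y := by
    show Points.map _ (Points.map (prod.map _ _) _) = Points.map _ _
    rw [← Points.map_comp, prod.map_map, ← Functor.map_comp, hdown, Category.comp_id]
  obtain ⟨M', _, _, p, hp⟩ := exists_field_point y
  obtain ⟨q', hq'⟩ := (yon (B k)).map_surjective (p ≫ prod.snd)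
  have sqP := IsPullback.of_hasPullback q' πN
  have sqN := isPullback_snd_map (X := O) ((yon (B k)).map πN)
  have sqZ := sqP.map (yon (B k))
  let ρ := sqN.lift ((yon (B k)).map (pullback.fst q' πN) ≫ p) ((yon (B k)).map (pullback.snd q' πN))
    (by rw [Category.assoc, ← hq']; exact sqZ.w)
  have hρ₁ : ρ ≫ prod.map (𝟙 O) ((yon (B k)).map πN) = (yon (B k)).map (pullback.fst q' πN) ≫ p :=
    sqN.lift_fst _ _ _
  have hρ₂ : ρ ≫ prod.snd = (yon (B k)).map (pullback.snd q' πN) := sqN.lift_snd _ _ _
  have sqρ : IsPullback ((yon (B k)).map (pullback.fst q' πN)) ρ p (prod.map (𝟙 O) ((yon (B k)).map πN)) :=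
    IsPullback.of_bot (v₂₁ := prod.snd) (v₂₂ := prod.snd) (h₃₁ := (yon (B k)).map πN)
      (by rw [hρ₂, ← hq']; exact sqZ) hρ₁.symm sqN
  obtain ⟨w, -, hw⟩ := AlgSpLib.exists_point_isPullback sqρ (pt k M') zi (hp.trans hziy.symm)
  -- a rational point in the image
  let Z := pullback q' πN
  let OZ : Set Z.left := {t | Points.map ρ (Points.schemeHomeo Z t) ∈ Set.range (Points.map a)}
  have hOZ : IsOpen OZ := ((AlgSpLib.isOpenMap_map_of_isEtaleMor
    (IsAlgSpace.yon_obj _) (AlgSpLib.isEtaleMor_of_openImmersion ha)).isOpen_range.preimage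
      (Points.continuous_map ρ)).preimage (Points.schemeHomeo Z).continuous
  have hopen : IsOpenMap (pullback.snd q' πN).left := by
    let q₀ : Spec (CommRingCat.of M') ⟶ Spec (CommRingCat.of L) := q'.left
    haveI : UniversallyOpen q₀ := inferInstance
    haveI : UniversallyOpen q'.left := inferInstanceAs (UniversallyOpen q₀)
    haveI : UniversallyOpen (pullback.snd q' πN).left :=
      MorphismProperty.of_isPullback (P := @UniversallyOpen) (sqP.map (Over.forget (B k))) ‹UniversallyOpen q'.left›
    exact Scheme.Hom.isOpenMap _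
  let A : Type u := i.unop.1
  let U : Set (PrimeSpectrum A) := (pullback.snd q' πN).left '' OZ
  have hU : IsOpen U := hopen _ hOZ
  have hUne : U.Nonempty := by
    obtain ⟨t, rfl⟩ := (Points.schemeHomeo Z).surjective w
    exact ⟨_, t, (show Points.map ρ (Points.schemeHomeo Z t) ∈ _ by rw [hw]; exact hzi), rfl⟩
  haveI : Algebra.FiniteType L A := ⟨(Subalgebra.fg_top _).mpr i.unop.2⟩
  haveI : IsJacobsonRing A := isJacobsonRing_of_finiteType (A := L)
  obtain ⟨m, hmU, hmc⟩ := nonempty_inter_closedPoints hUne hU.isLocallyClosed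
  haveI : m.asIdeal.IsMaximal := (PrimeSpectrum.isClosed_singleton_iff_isMaximal m).1 hmc
  letI := Ideal.Quotient.field m.asIdeal
  haveI : Algebra.FiniteType L (A ⧸ m.asIdeal) :=
    Algebra.FiniteType.of_surjective (Ideal.Quotient.mkₐ L m.asIdeal) (Ideal.Quotient.mkₐ_surjective L _)
  haveI : Module.Finite L (A ⧸ m.asIdeal) := finite_of_finite_type_of_isJacobsonRing L (A ⧸ m.asIdeal)
  haveI : Algebra.IsAlgebraic L (A ⧸ m.asIdeal) := Algebra.IsAlgebraic.of_finite L _
  let σ : A →ₐ[L] L := (IsAlgClosed.lift : (A ⧸ m.asIdeal) →ₐ[L] L).comp (Ideal.Quotient.mkₐ L m.asIdeal)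
  let g : Ext k L ⟶ N.obj i := Over.homMk (Spec.map (CommRingCat.ofHom σ.toRingHom)) (by
    show Spec.map _ ≫ Spec.map _ = Spec.map _
    rw [← Spec.map_comp, ← CommRingCat.ofHom_comp]
    congr 2
    exact (σ.restrictScalars k).comp_algebraMap)
  have hgπ : g ≫ πN = 𝟙 _ := Over.OverMorphism.ext (by
    show Spec.map _ ≫ Spec.map _ = 𝟙 _
    rw [← Spec.map_comp, ← CommRingCat.ofHom_comp,
      show σ.toRingHom.comp (algebraMap L A) = RingHom.id L from σ.comp_algebraMap, CommRingCat.ofHom_id, Spec.map_id])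
  have hgm : g.left default = m := PrimeSpectrum.ext (by
    refine ((inferInstance : m.asIdeal.IsMaximal).eq_of_le (Ideal.IsPrime.ne_top inferInstance) fun x hx => ?_).symm
    show σ x ∈ (default : PrimeSpectrum L).asIdeal
    rw [show σ x = 0 by
      show (IsAlgClosed.lift : (A ⧸ m.asIdeal) →ₐ[L] L) (Ideal.Quotient.mk _ x) = 0
      rw [Ideal.Quotient.eq_zero_iff_mem.2 hx, map_zero]]
    exact Ideal.zero_mem _)
  obtain ⟨t, ht, htm⟩ := hmU
  obtain ⟨y', hy', -⟩ := AlgSpLib.exists_point_isPullback (isPullback_snd_map (X := O) ((yon (B k)).map g))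
    (Points.map ρ (Points.schemeHomeo Z t)) (pt k L) (by
      rw [← Points.map_comp, hρ₂, Points.map_yon_map_apply, Points.map_yon_map_apply, htm, hgm])
  have hy'y : y' = y := by
    have h1 := congrArg (Points.map (prod.map (𝟙 O) ((yon (B k)).map πN))) hy'
    rw [← Points.map_comp, ← Points.map_comp, hρ₁, prod.map_map, ← Functor.map_comp, hgπ, Category.comp_id,
      CategoryTheory.Functor.map_id, prod.map_id_id, Points.map_id, Points.map_comp, Points.map_yon_map_apply,
      Subsingleton.elim ((pullback.fst q' πN).left t) default] at h1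
    exact h1.trans hp
  subst hy'y
  have hh := repWith_bcMap_affine O g
  have hW := hh.rep.isPullback a
  refine ⟨_, hh.rep.fst a, AlgSpLib.repWith_of_isPullback hW.flip ha, ?_⟩
  obtain ⟨b, hb⟩ := ht
  obtain ⟨w', hw', -⟩ := AlgSpLib.exists_point_isPullback hW _ b (hy'.trans hb.symm)
  exact ⟨w', hw'⟩

/-- A point with a schematic neighbourhood over a bigger field has one over an algebraically closed one. -/
theorem exists_schematic_nhd_descend {X : Sp (B k)} (hX : IsAlgSpace X) (hqs : IsQuasiSeparatedSp X)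
    {W₀ : Over (B k)} (f₀ : (yon (B k)).obj W₀ ⟶ X ⨯ (yon (B k)).obj (Ext k M))
    (hf₀ : RepWith @IsOpenImmersion f₀) (z : Points (X ⨯ (yon (B k)).obj (Ext k M)))
    (hz : z ∈ Set.range (Points.map f₀)) :
    ∃ (W : Over (B k)) (f : (yon (B k)).obj W ⟶ X ⨯ (yon (B k)).obj (Ext k L)),
      RepWith @IsOpenImmersion f ∧ bcMap (down k L M) z ∈ Set.range (Points.map f) := by
  obtain ⟨U, a, ha, has⟩ := hX.atlas
  obtain ⟨u, hu⟩ := AlgSpLib.surjective_ofPt has (Points.map prod.fst z)
  obtain ⟨A, hA, huA, -⟩ := exists_isAffineOpen_mem_and_subset (X := U.left) (U := ⊤) (x := u) trivial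
  let Ω : Set (Points X) := Points.ofPt a '' (A : Set U.left)
  have hΩ : IsOpen Ω := AlgSpLib.isOpenMap_ofPt ha _ A.2
  have hι := AlgSpLib.repWith_openSubι X hΩ
  let io := AlgSpLib.openSubι X Ω
  have hO := AlgSpLib.isAlgSpace_openSub hX hΩ
  haveI : Mono io := AlgSpLib.mono_of_openImmersion hι
  have hemb : Topology.IsOpenEmbedding (Points.map io) :=
    Topology.IsOpenEmbedding.of_continuous_injective_isOpenMap (Points.continuous_map io)
      (points_map_injective_of_mono hO hX io)
      (AlgSpLib.isOpenMap_map_of_isEtaleMor hO (AlgSpLib.isEtaleMor_of_openImmersion hι))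
  have hqc : IsQuasiCompactSp (openSub X Ω) := by
    refine AlgSpLib.isQuasiCompactSp_of_compactSpace hO ⟨?_⟩
    rw [hemb.isInducing.isCompact_iff, Set.image_univ, AlgSpLib.range_openSubι]
    exact hA.isCompact.image (Points.continuous_ofPt a)
  let jM : openSub X Ω ⨯ (yon (B k)).obj (Ext k M) ⟶ X ⨯ (yon (B k)).obj (Ext k M) := prod.map io (𝟙 _)
  have hjM : RepWith @IsOpenImmersion jM := AlgSpLib.repWith_of_isPullback (isPullback_prod_left_map io) hι
  obtain ⟨x₁, hx₁⟩ : Points.map prod.fst z ∈ Set.range (Points.map io) := by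
    rw [AlgSpLib.range_openSubι]; exact ⟨u, huA, hu⟩
  obtain ⟨z₁, -, hz₁⟩ := AlgSpLib.exists_point_isPullback (isPullback_prod_left_map io) x₁ z hx₁
  have sq₁ := hjM.rep.isPullback f₀
  obtain ⟨b₀, hb₀⟩ := hz
  obtain ⟨b₁, hb₁, -⟩ := AlgSpLib.exists_point_isPullback sq₁ z₁ b₀ (hz₁.trans hb₀.symm)
  obtain ⟨v, rfl⟩ := (Points.schemeHomeo _).surjective b₁
  obtain ⟨A₁, hA₁, hvA, -⟩ := exists_isAffineOpen_mem_and_subset (X := (hjM.rep.pullback f₀).left) (U := ⊤) (x := v) trivial
  let V : Over (B k) := Over.mk (A₁.ι ≫ (hjM.rep.pullback f₀).hom)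
  haveI : IsAffine V.left := hA₁
  let o : V ⟶ hjM.rep.pullback f₀ := Over.homMk A₁.ι rfl
  let j := (yon (B k)).map o ≫ hjM.rep.fst f₀
  have hj : RepWith @IsOpenImmersion j := AlgSpLib.repWith_comp
    ((repWith_yon_map_iff (@IsOpenImmersion : MorphismProperty Scheme.{u}) o).2 (inferInstanceAs (IsOpenImmersion A₁.ι)))
    (AlgSpLib.repWith_of_isPullback sq₁.flip hf₀)
  obtain ⟨W, f, hf, b, hb⟩ := exists_schematic_nhd_descend_qc (L := L) hO hqc
    (AlgSpLib.isQuasiSeparatedSp_of_mor (isQuasiSeparatedMor_of_mono io) hqs) V j hj z₁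
    ⟨Points.schemeHomeo V ⟨v, hvA⟩, by rw [Points.map_comp, Points.map_yon_map_apply]; exact hb₁⟩
  refine ⟨W, f ≫ prod.map io (𝟙 _), AlgSpLib.repWith_comp hf
    (AlgSpLib.repWith_of_isPullback (isPullback_prod_left_map io) hι), b, ?_⟩
  rw [Points.map_comp, hb, ← hz₁, bcMap, bcMap, ← Points.map_comp, ← Points.map_comp, prod.map_map, prod.map_map,
    Category.id_comp, Category.comp_id, Category.comp_id, Category.id_comp]

end Descend

/-! ## The group -/

variable {G : Over ((yon (B k)).obj (Over.mk (𝟙 (B k))))} [GrpObj G]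

abbrev term (k : Type u) [Field k] : IsTerminal ((yon (B k)).obj (Over.mk (𝟙 (B k)))) :=
  (Over.mkIdTerminal (X := B k)).isTerminalObj (yon (B k)) _

/-- A map into the underlying space as a map into the group. -/
abbrev toG {T : Sp (B k)} (a : T ⟶ G.left) : Over.mk ((term k).from T) ⟶ G :=
  Over.homMk a ((term k).hom_ext _ _)

/-- The product of two maps into the underlying space. -/
def mulT {T : Sp (B k)} (a b : T ⟶ G.left) : T ⟶ G.left := (toG a * toG b).left

/-- The inverse. -/
def invT {T : Sp (B k)} (a : T ⟶ G.left) : T ⟶ G.left := (toG a)⁻¹.left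

theorem comp_mulT {T T' : Sp (B k)} (f : T' ⟶ T) (a b : T ⟶ G.left) : f ≫ mulT a b = mulT (f ≫ a) (f ≫ b) := by
  let F : Over.mk ((term k).from T') ⟶ Over.mk ((term k).from T) := Over.homMk f ((term k).hom_ext _ _)
  have h := congrArg CommaMorphism.left (MonObj.comp_mul F (toG a) (toG b))
  have e : ∀ x : T ⟶ G.left, F ≫ toG x = toG (f ≫ x) := fun x => Over.OverMorphism.ext rfl
  rw [e, e] at h
  exact h

theorem comp_invT {T T' : Sp (B k)} (f : T' ⟶ T) (a : T ⟶ G.left) : f ≫ invT a = invT (f ≫ a) := by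
  let F : Over.mk ((term k).from T') ⟶ Over.mk ((term k).from T) := Over.homMk f ((term k).hom_ext _ _)
  have h := congrArg CommaMorphism.left (GrpObj.comp_inv F (toG a))
  rw [show F ≫ toG a = toG (f ≫ a) from Over.OverMorphism.ext rfl] at h
  exact h

theorem toG_mulT {T : Sp (B k)} (a b : T ⟶ G.left) : toG (mulT a b) = toG a * toG b := Over.OverMorphism.ext rfl

theorem toG_invT {T : Sp (B k)} (a : T ⟶ G.left) : toG (invT a) = (toG a)⁻¹ := Over.OverMorphism.ext rfl

theorem toG_inj {T : Sp (B k)} {a b : T ⟶ G.left} (h : toG a = toG b) : a = b := congrArg CommaMorphism.left h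

/-- A separated group space is a scheme over an algebraically closed field. -/
theorem isRepSh_grp_algClosed [IsAlgClosed L] (hG : IsAlgSpace G.left) (hqs : IsQuasiSeparatedSp G.left) :
    IsRepSh (G.left ⨯ (yon (B k)).obj (Ext k L)) := by
  classical
  let X := G.left
  let T₀ := (yon (B k)).obj (Over.mk (𝟙 (B k)))
  let e₀ : Points T₀ := Points.schemeHomeo _ (default : PrimeSpectrum k)
  haveI : Nonempty (Points X) := ⟨Points.map (η[G]).left e₀⟩
  obtain ⟨x, -, hxΩ⟩ := (dense_schemeLocus hG (AlgSpLib.isDecent_of_isQuasiSeparatedSp hG hqs)).inter_open_nonempty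
    Set.univ isOpen_univ Set.univ_nonempty
  let Ω := schemeLocus X
  have hΩ : IsOpen Ω := isOpen_schemeLocus X
  let io := AlgSpLib.openSubι X Ω
  have hι := AlgSpLib.repWith_openSubι X hΩ
  obtain ⟨M₂, _, _, u₀, hu₀⟩ := exists_field_point x
  have key : ∀ y : Points (X ⨯ (yon (B k)).obj (Ext k L)), ∃ (W : Over (B k))
      (f : (yon (B k)).obj W ⟶ X ⨯ (yon (B k)).obj (Ext k L)),
      RepWith @IsOpenImmersion f ∧ y ∈ Set.range (Points.map f) := fun y => by
    obtain ⟨M₁, _, _, p, hp⟩ := exists_field_point y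
    obtain ⟨q₁, hq₁⟩ := (yon (B k)).map_surjective (p ≫ prod.snd)
    obtain ⟨M, _, _, ⟨i₁⟩, ⟨i₂⟩⟩ := exists_common_field (k := k) M₁ M₂
    let qM : Ext k M ⟶ Ext k L := extHom i₁ ≫ q₁
    let qs : Spec (CommRingCat.of M) ⟶ Spec (CommRingCat.of L) := qM.left
    letI : Algebra L M := (Spec.preimage qs).hom.toAlgebra
    haveI : IsScalarTower k L M := IsScalarTower.of_algebraMap_eq' (by
      refine congrArg CommRingCat.Hom.hom (Spec.map_injective (?_ :
        Spec.map (CommRingCat.ofHom (algebraMap k M)) =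
          Spec.map (CommRingCat.ofHom (algebraMap k L) ≫ Spec.preimage qs)))
      rw [Spec.map_comp, Spec.map_preimage]
      exact (Over.w qM).symm)
    have hdown : down k L M = qM := Over.OverMorphism.ext (Spec.map_preimage qs)
    let E := (yon (B k)).obj (Ext k M)
    let x₀ : E ⟶ X := (yon (B k)).map (extHom i₁) ≫ p ≫ prod.fst
    let u₁ : E ⟶ X := (yon (B k)).map (extHom i₂) ≫ u₀
    let t : E ⟶ X := mulT x₀ (invT u₁)
    let τ : X ⨯ E ⟶ X ⨯ E := prod.lift (mulT (prod.snd ≫ t) prod.fst) prod.snd
    let τ' : X ⨯ E ⟶ X ⨯ E := prod.lift (mulT (invT (prod.snd ≫ t)) prod.fst) prod.snd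
    have hτ : τ ≫ τ' = 𝟙 _ := by
      apply Limits.prod.hom_ext
      · rw [Category.assoc, prod.lift_fst, comp_mulT, comp_invT, prod.lift_fst, prod.lift_snd_assoc, Category.id_comp]
        apply toG_inj
        rw [toG_mulT, toG_invT, toG_mulT, inv_mul_cancel_left]
      · simp [τ, τ']
    have hτ' : τ' ≫ τ = 𝟙 _ := by
      apply Limits.prod.hom_ext
      · rw [Category.assoc, prod.lift_fst, comp_mulT, prod.lift_fst, prod.lift_snd_assoc, Category.id_comp]
        apply toG_inj
        rw [toG_mulT, toG_mulT, toG_invT, mul_inv_cancel_left]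
      · simp [τ, τ']
    haveI : IsIso τ := ⟨τ', hτ, hτ'⟩
    obtain ⟨W₁, ⟨e₁⟩⟩ := isRepSh_of_repWith (repWith_fst_affine (openSub X Ω) (Ext k M)) (isRepSh_schemeLocus hG)
    let f₀ := e₁.hom ≫ prod.map io (𝟙 E) ≫ τ
    have hf₀ : RepWith @IsOpenImmersion f₀ := AlgSpLib.repWith_comp (AlgSpLib.repWith_of_isIso _)
      (AlgSpLib.repWith_comp (AlgSpLib.repWith_of_isPullback (isPullback_prod_left_map io) hι)
        (AlgSpLib.repWith_of_isIso _))
    let z := Points.map (prod.lift x₀ (𝟙 E)) (pt k M)
    have hz : z ∈ Set.range (Points.map f₀) := by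
      obtain ⟨x₁, hx₁⟩ : Points.map prod.fst (Points.map (prod.lift u₁ (𝟙 E)) (pt k M)) ∈
          Set.range (Points.map io) := by
        rw [AlgSpLib.range_openSubι, ← Points.map_comp, prod.lift_fst, Points.map_comp, Points.map_yon_map_apply,
          Subsingleton.elim ((extHom i₂).left default) default]
        exact hu₀.symm ▸ hxΩ
      obtain ⟨z₁, -, hz₁⟩ := AlgSpLib.exists_point_isPullback (isPullback_prod_left_map io) x₁ _ hx₁
      refine ⟨Points.map e₁.inv z₁, ?_⟩
      rw [← Points.map_comp, Iso.inv_hom_id_assoc, Points.map_comp, hz₁, ← Points.map_comp]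
      show Points.map _ _ = Points.map _ _
      congr 1
      apply Limits.prod.hom_ext
      · rw [Category.assoc, prod.lift_fst, comp_mulT, prod.lift_fst, prod.lift_snd_assoc, Category.id_comp,
          prod.lift_fst]
        apply toG_inj
        rw [toG_mulT, toG_mulT, toG_invT, inv_mul_cancel_right]
      · simp [τ]
    obtain ⟨W, f, hf, hy⟩ := exists_schematic_nhd_descend (L := L) (M := M) hG hqs f₀ hf₀ z hz
    refine ⟨W, f, hf, ?_⟩
    have e : bcMap (down k L M) z = y := by
      show Points.map _ (Points.map _ _) = y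
      rw [← Points.map_comp, show prod.lift x₀ (𝟙 E) ≫ prod.map (𝟙 X) ((yon (B k)).map (down k L M)) =
        (yon (B k)).map (extHom i₁) ≫ p by
          apply Limits.prod.hom_ext
          · simp [x₀]
          · rw [hdown, Category.assoc, Category.assoc, prod.map_snd, prod.lift_snd_assoc, Category.id_comp,
              Functor.map_comp, hq₁],
        Points.map_comp, Points.map_yon_map_apply, Subsingleton.elim ((extHom i₁).left default) default]
      exact hp
    rwa [e] at hy
  choose W f hf hmem using key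
  obtain ⟨U, a, ha, has⟩ := hG.atlas
  let c := prodChart (S := B k) a (𝟙 ((yon (B k)).obj (Ext k L)))
  exact isRepSh_of_points_cover (fun w : (U ⨯ Ext k L).left => f (Points.ofPt c w)) (fun w => hf _) fun y => by
    obtain ⟨w, rfl⟩ := surjective_ofPt_prodChart (b := 𝟙 ((yon (B k)).obj (Ext k L))) has (repWith_id_yon _ _) y
    exact ⟨w, hmem _⟩

end AlgSpFieldLib
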