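import Groth.Agent.AlgSpFieldLib.Galois
import Groth.Agent.AlgSpLib.AffineFpqc
import Groth.Agent.SpectralQuot.SchematicLocus

/-!
# Purely inseparable descent of schematic nature
-/

set_option autoImplicit false
set_option linter.style.haveILetI false
set_option backward.isDefEq.respectTransparency false
set_option backward.isDefEq.respectTransparency.types false

universe u

open CategoryTheory CategoryTheory.Limits AlgebraicGeometry TopologicalSpace Opposite Topology
open AlgSp AlgSpLib SpectralQuot

noncomputable section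

namespace AlgSpFieldLib

variable {k : Type u} [Field k] {K : Type u} [Field K] [Algebra k K]

theorem injective_fst_of_purelyInseparable [IsPurelyInseparable k K] {F : Sp (B k)} (hF : IsAlgSpace F) :
    Function.Injective (Points.map (prod.fst : F ⨯ (yon (B k)).obj (Ext k K) ⟶ F)) := by
  rw [fst_eq]
  refine (bijective_fst F).1.comp fun z z' h => ?_
  have e : Algebra.ofId k K = IsScalarTower.toAlgHom k k K := Algebra.ext_id_iff.2 trivial
  rw [e] at h
  obtain ⟨σ, rfl⟩ := galois_transitive hF z z' h
  haveI : Subsingleton (K →ₐ[k] K) := inferInstance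
  rw [Subsingleton.elim (((σ : K →ₐ[k] K)).restrictScalars k) (AlgHom.id k K)]
  have h1 : extHom (AlgHom.id k K) = 𝟙 (Ext k K) := Over.OverMorphism.ext (Spec.map_id _)
  rw [h1, bcMap, CategoryTheory.Functor.map_id, prod.map_id_id, Points.map_id]

theorem isRepSh_of_bc_purelyInseparable [IsPurelyInseparable k K] {X : Sp (B k)} (hX : IsAlgSpace X) {W : Over (B k)}
    (e : (yon (B k)).obj W ≅ X ⨯ (yon (B k)).obj (Ext k K)) : IsRepSh X := by
  let π : X ⨯ (yon (B k)).obj (Ext k K) ⟶ X := prod.fst
  have hinj : Function.Injective (Points.map π) := injective_fst_of_purelyInseparable hX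
  have hsurj : Function.Surjective (Points.map π) := surjective_fst X
  have hopen : IsOpenMap (Points.map π) := isOpenMap_fst hX (IsAlgSpace.yon_obj _)
  have hall : ∀ x : Points X, x ∈ schemeLocus X := fun x => by
    obtain ⟨z, rfl⟩ := hsurj x
    have he : Function.Surjective (Points.ofPt e.hom) :=
      surjective_ofPt (MorphismProperty.RespectsIso.postcomp (P := RepWith (@Surjective : MorphismProperty Scheme.{u}))
        e.hom (𝟙 _) (repWith_id _ W))
    obtain ⟨w, rfl⟩ := he z
    obtain ⟨A, hA, hwA, -⟩ := exists_isAffineOpen_mem_and_subset (U := (⊤ : W.left.Opens)) (x := w) trivial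
    let O : Over (B k) := Over.mk (A.ι ≫ W.hom)
    haveI : IsAffine O.left := hA
    let o : O ⟶ W := Over.homMk A.ι rfl
    let j₁ := (yon (B k)).map o ≫ e.hom
    have hj : RepWith @IsOpenImmersion j₁ := MorphismProperty.RespectsIso.postcomp _ _ _
      ((repWith_yon_map_iff (@IsOpenImmersion : MorphismProperty Scheme.{u}) o).2 (inferInstanceAs (IsOpenImmersion A.ι)))
    haveI := mono_of_openImmersion hj
    let Ω : Set (Points X) := Points.map π '' Set.range (Points.map j₁)
    have hΩ : IsOpen Ω := by
      refine hopen _ ?_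
      rw [← range_ofPt]
      exact (isOpenMap_ofPt (repWith_mono (fun _ _ f (h : IsOpenImmersion f) => (inferInstance : Etale f)) hj)).isOpen_range
    have hw : Points.map π (Points.ofPt e.hom w) ∈ Ω := by
      refine ⟨_, ?_, rfl⟩
      rw [← range_ofPt]
      exact ⟨⟨w, hwA⟩, ofPt_yon_comp _ _ _⟩
    refine Set.subset_sUnion_of_mem (show Ω ∈ {Ω | IsOpen Ω ∧ IsRepSh (openSub X Ω)} from ⟨hΩ, ?_⟩) hw
    obtain ⟨l, hl⟩ := (exists_factor_iff (repWith_openSubι X hΩ) (j₁ ≫ π)).2 (by
      rw [range_openSubι]
      rintro _ ⟨y, rfl⟩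
      exact ⟨Points.map j₁ y, ⟨y, rfl⟩, (Points.map_comp _ _ _).symm⟩)
    have sq1 : IsPullback l j₁ (openSubι X Ω) π := isPullback_of_forall_existsUnique hl fun R a b hab => by
      obtain ⟨g, hg⟩ := (exists_factor_iff hj b).2 (by
        rintro _ ⟨r, rfl⟩
        have h1 : Points.map π (Points.map b r) ∈ Ω := by
          rw [← Points.map_comp, ← hab, Points.map_comp]
          exact (range_openSubι X).le ⟨_, rfl⟩
        obtain ⟨y, hy, hy'⟩ := h1
        rwa [← hinj hy'])
      refine ⟨g, ⟨?_, hg⟩, fun g' hg' => ?_⟩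
      · rw [← cancel_mono (openSubι X Ω), Category.assoc, hl, ← Category.assoc, hg, hab]
      · rw [← cancel_mono j₁, hg'.2, hg]
    let t : IsTerminal ((yon (B k)).obj (Over.mk (𝟙 (B k)))) :=
      (Over.mkIdTerminal (X := B k)).isTerminalObj (yon (B k)) _
    have sq2 : IsPullback π (prod.snd : X ⨯ (yon (B k)).obj (Ext k K) ⟶ _) (t.from X) (t.from _) :=
      IsPullback.of_is_product' (prodIsProd X ((yon (B k)).obj (Ext k K))) t
    let q : Ext k K ⟶ Over.mk (𝟙 (B k)) := Over.homMk (Spec.map (CommRingCat.ofHom (algebraMap k K))) (by simp)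
    obtain ⟨pW, hpW⟩ := (yon (B k)).map_surjective (j₁ ≫ prod.snd)
    have sq : IsPullback l ((yon (B k)).map pW) (openSubι X Ω ≫ t.from X) ((yon (B k)).map q) := by
      rw [hpW, t.hom_ext ((yon (B k)).map q) (t.from _)]
      exact sq1.paste_vert sq2
    haveI : IsAffine (Over.mk (𝟙 (B k))).left := inferInstanceAs (IsAffine (Spec (CommRingCat.of k)))
    haveI : IsAffine (Ext k K).left := inferInstanceAs (IsAffine (Spec (CommRingCat.of K)))
    haveI : Flat q.left := inferInstanceAs (Flat (Spec.map (CommRingCat.ofHom (algebraMap k K))))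
    haveI : Surjective q.left := ⟨fun y => ⟨IsLocalRing.closedPoint K, Subsingleton.elim (α := PrimeSpectrum k) _ y⟩⟩
    obtain ⟨W₁, -, e₁, -, -⟩ := exists_affine_of_fpqc_base (isAlgSpace_openSub hX hΩ) sq
    exact ⟨W₁, ⟨e₁⟩⟩
  haveI := isIso_of_openImmersion_surjective (repWith_openSubι X (isOpen_schemeLocus X)) fun x => by
    rw [← Set.mem_range, range_openSubι]; exact hall x
  exact (isRepSh_schemeLocus hX).of_iso (asIso (openSubι X (schemeLocus X)))

end AlgSpFieldLib
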