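import Groth.Agent.AlgSpFieldLib.Conn
import Groth.Agent.AlgSpLib.Reduced
import Groth.Agent.AlgSpLib.ReducedStalk
import Groth.Agent.AlgSpLib.DecentBasic
import Groth.Prelude.Def_FDesc
import Groth.Prelude.Def_AlgSpDec

/-!
# Reducedness and decency under extension of the ground field
-/

set_option autoImplicit false
set_option linter.style.haveILetI false
set_option backward.isDefEq.respectTransparency false
set_option backward.isDefEq.respectTransparency.types false

universe u

open CategoryTheory CategoryTheory.Limits AlgebraicGeometry TopologicalSpace Opposite Topology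
open AlgSp AlgSpLib

noncomputable section

namespace AlgSpFieldLib

variable {k : Type u} [Field k]

/-- The chart of a base change as a base change of the chart. -/
def prodBCIso (U : Over (B k)) (K : Type u) [Field K] [Algebra k K] : (U ⨯ Ext k K).left ≅ FBase.bc U.hom K :=
  (isPullback_prod_left U (Ext k K)).isoPullback

theorem isReduced_bc_of_reduced {F : Sp (B k)} {K : Type u} [Field K] [Algebra k K]
    (h : EtaleLocally (fun U => IsReduced U) (F ⨯ (yon (B k)).obj (Ext k K))) {U : Over (B k)}
    {a : (yon (B k)).obj U ⟶ F} (ha : RepWith @Etale a) : IsReduced (FBase.bc U.hom K) := by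
  have := isReduced_of_chart h (repWith_prodChart ha (repWith_id_yon @Etale (Ext k K)))
  exact isReduced_of_isOpenImmersion (prodBCIso U K).inv

theorem etaleLocally_reduced_bc {F : Sp (B k)} {K : Type u} [Field K] [Algebra k K] {U : Over (B k)}
    {a : (yon (B k)).obj U ⟶ F} (ha : RepWith @Etale a) (has : RepWith @Surjective a)
    (h : IsReduced (FBase.bc U.hom K)) :
    EtaleLocally (fun U => IsReduced U) (F ⨯ (yon (B k)).obj (Ext k K)) :=
  ⟨U ⨯ Ext k K, prodChart a (𝟙 _), repWith_prodChart ha (repWith_id_yon _ _),
    repWith_prodChart has (repWith_id_yon _ _), isReduced_of_isOpenImmersion (prodBCIso U K).hom⟩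

/-- Geometric reducedness at a point moves along etale correspondences. -/
theorem isReduced_stalk_bc_of_etale {W U U' : Scheme.{u}} (p : W ⟶ U) (q : W ⟶ U') [Etale p] [Etale q]
    (f : U ⟶ B k) (f' : U' ⟶ B k) (h : p ≫ f = q ≫ f') (w : W) (hg : FBase.IsGeomReducedAt f' (q w))
    {K : Type u} [Field K] [Algebra k K] (v : ↥(FBase.bc f K)) (hv : (FBase.bcπ f K).base v = p w) :
    _root_.IsReduced ((FBase.bc f K).presheaf.stalk v) := by
  let g := Spec.map (CommRingCat.ofHom (algebraMap k K))
  let mp : pullback (p ≫ f) g ⟶ pullback f g := pullback.map _ _ _ _ p (𝟙 _) (𝟙 _) (by simp) (by simp)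
  let mq : pullback (p ≫ f) g ⟶ pullback f' g := pullback.map _ _ _ _ q (𝟙 _) (𝟙 _) (by simp [h]) (by simp)
  have sqp : IsPullback mp (pullback.fst (p ≫ f) g) (pullback.fst f g) p :=
    (IsPullback.of_bot (v₂₁ := pullback.snd f g) (v₂₂ := f) (h₃₁ := g)
      (by simpa [mp] using IsPullback.of_hasPullback (p ≫ f) g) (by simp [mp])
      (IsPullback.of_hasPullback f g)).flip
  have sqq : IsPullback mq (pullback.fst (p ≫ f) g) (pullback.fst f' g) q :=
    (IsPullback.of_bot (v₂₁ := pullback.snd f' g) (v₂₂ := f') (h₃₁ := g)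
      (by simpa [mq, h] using IsPullback.of_hasPullback (p ≫ f) g) (by simp [mq])
      (IsPullback.of_hasPullback f' g)).flip
  haveI : Etale mp := MorphismProperty.of_isPullback (P := @Etale) sqp.flip inferInstance
  haveI : Etale mq := MorphismProperty.of_isPullback (P := @Etale) sqq.flip inferInstance
  obtain ⟨w', h1, h2⟩ := Scheme.Pullback.exists_preimage_pullback (f := pullback.fst f g) (g := p) v w hv
  have hw1 : mp (sqp.isoPullback.inv w') = v := by
    rw [← Scheme.Hom.comp_apply, sqp.isoPullback_inv_fst, h1]
  have hw2 : pullback.fst (p ≫ f) g (sqp.isoPullback.inv w') = w := by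
    rw [← Scheme.Hom.comp_apply, sqp.isoPullback_inv_snd, h2]
  haveI : _root_.IsReduced ((pullback f' g).presheaf.stalk (mq (sqp.isoPullback.inv w'))) := hg K (mq (sqp.isoPullback.inv w')) (by
    show pullback.fst f' g (mq _) = q w
    rw [← Scheme.Hom.comp_apply, sqq.w, Scheme.Hom.comp_apply, hw2])
  haveI := isReduced_stalk_of_smooth mq (sqp.isoPullback.inv w')
  rw [← hw1]
  exact isReduced_stalk_of_flat mp _

theorem representable_fst (F : Sp (B k)) (V : Over (B k)) :
    Representable (prod.fst : F ⨯ (yon (B k)).obj V ⟶ F) := by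
  let t : IsTerminal ((yon (B k)).obj (Over.mk (𝟙 (B k)))) :=
    (Over.mkIdTerminal (X := B k)).isTerminalObj (yon (B k)) _
  have sq : IsPullback (prod.fst : F ⨯ (yon (B k)).obj V ⟶ F) prod.snd (t.from F) (t.from _) :=
    IsPullback.of_is_product' (prodIsProd F ((yon (B k)).obj V)) t
  have h : Representable (t.from ((yon (B k)).obj V)) := by
    rw [t.hom_ext (t.from _) ((yon (B k)).map (Over.mkIdTerminal.from V))]
    exact Functor.relativelyRepresentable.map (F := yon (B k)) (Over.mkIdTerminal.from V)
  exact MorphismProperty.of_isPullback sq.flip h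

theorem isDecent_bc {F : Sp (B k)} (hF : IsDecent F) (V : Over (B k)) : IsDecent (F ⨯ (yon (B k)).obj V) :=
  isDecent_of_representable prod.fst (representable_fst F V) hF

end AlgSpFieldLib
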