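import Groth.Agent.SpectralQuot.SchematicLocus
import Groth.Agent.AlgSpLib.MorPack
import Groth.Prelude.Def_AlgSpMor5

/-!
# Schematic points of the target of a finite locally free covering
-/

set_option autoImplicit false
set_option linter.style.haveILetI false
set_option backward.isDefEq.respectTransparency false
set_option backward.isDefEq.respectTransparency.types false

universe u

open CategoryTheory CategoryTheory.Limits AlgebraicGeometry Opposite AlgSp AlgSpLib Topology TopologicalSpace SpectralQuot

noncomputable section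

namespace AlgSpFieldLib

variable {S : Scheme.{u}} {X : Sp S} {U R : Over S} {a : (yon S).obj U ⟶ X} {t s : R ⟶ U}

/-- The groupoid of a finite locally free equivalence relation with orbits in affine opens has a scheme quotient. -/
theorem isRepSh_of_finLocFree_relation [IsFinite s.left] [Flat s.left] [LocallyOfFinitePresentation s.left]
    (sq : IsPullback ((yon S).map t) ((yon S).map s) a a) [Sheaf.IsLocallySurjective a]
    (hb : ∀ u : U.left, ∃ V : U.left.Opens, IsAffineOpen V ∧ ∀ r : R.left, s.left r = u → t.left r ∈ V) :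
    IsRepSh X := by
  let Z : Over S := Over.mk (pullback.fst s.left t.left ≫ R.hom)
  let p₁ : Z ⟶ R := Over.homMk (pullback.fst s.left t.left) rfl
  let p₂ : Z ⟶ R := Over.homMk (pullback.snd s.left t.left) (by
    show pullback.snd _ _ ≫ R.hom = pullback.fst _ _ ≫ R.hom
    conv_lhs => rw [← Over.w t]
    conv_rhs => rw [← Over.w s]
    rw [← Category.assoc, ← Category.assoc, pullback.condition])
  have hp : p₁ ≫ s = p₂ ≫ t := Over.OverMorphism.ext pullback.condition
  have hex : ∀ {T : Over S} (b c : T ⟶ U), (yon S).map b ≫ a = (yon S).map c ≫ a →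
      ∃ l : T ⟶ R, l ≫ t = b ∧ l ≫ s = c := fun b c h => by
    obtain ⟨l, hl⟩ := (yon S).map_surjective (sq.lift _ _ h)
    exact ⟨l, (yon S).map_injective (by rw [Functor.map_comp, hl, sq.lift_fst]),
      (yon S).map_injective (by rw [Functor.map_comp, hl, sq.lift_snd])⟩
  obtain ⟨c, hct, hcs⟩ := hex (p₁ ≫ t) (p₂ ≫ s) (by
    rw [Functor.map_comp_assoc, sq.w, ← Functor.map_comp_assoc, hp, Functor.map_comp_assoc, sq.w,
      ← Functor.map_comp_assoc])
  obtain ⟨e, het, hes⟩ := hex (𝟙 U) (𝟙 U) rfl
  obtain ⟨i, hit, his⟩ := hex s t sq.w.symm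
  have hct' : c.left ≫ t.left = pullback.fst s.left t.left ≫ t.left := congrArg CommaMorphism.left hct
  have hcs' : c.left ≫ s.left = pullback.snd s.left t.left ≫ s.left := congrArg CommaMorphism.left hcs
  have het' : e.left ≫ t.left = 𝟙 _ := congrArg CommaMorphism.left het
  have hes' : e.left ≫ s.left = 𝟙 _ := congrArg CommaMorphism.left hes
  have hit' : i.left ≫ t.left = s.left := congrArg CommaMorphism.left hit
  have his' : i.left ≫ s.left = t.left := congrArg CommaMorphism.left his
  let G : Grpd.GroupoidScheme S :=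
    { U := U.left, R := R.left, pU := U.hom, pR := R.hom, s := s.left, t := t.left
      e := e.left, i := i.left, c := c.left
      s_over := Over.w s, t_over := Over.w t
      comp_s := fun α β h => by rw [Category.assoc, hcs', pullback.lift_snd_assoc]
      comp_t := fun α β h => by rw [Category.assoc, hct', pullback.lift_fst_assoc]
      assoc := fun α β γ h₁ h₂ => by
        apply left_ext sq
        · simp only [Category.assoc, hct', pullback.lift_fst_assoc]
        · simp only [Category.assoc, hcs', pullback.lift_snd_assoc]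
      e_s := hes', e_t := het'
      comp_e := fun α => by
        apply left_ext sq
        · simp only [Category.assoc, hct', pullback.lift_fst_assoc]
        · simp only [Category.assoc, hcs', pullback.lift_snd_assoc, hes', Category.comp_id]
      e_comp := fun α => by
        apply left_ext sq
        · simp only [Category.assoc, hct', pullback.lift_fst_assoc, het', Category.comp_id]
        · simp only [Category.assoc, hcs', pullback.lift_snd_assoc]
      i_s := his', i_t := hit'
      comp_i := fun α => by
        apply left_ext sq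
        · simp only [Category.assoc, hct', pullback.lift_fst_assoc, het', Category.comp_id]
        · simp only [Category.assoc, hcs', pullback.lift_snd_assoc, his', hes', Category.comp_id]
      i_comp := fun α => by
        apply left_ext sq
        · simp only [Category.assoc, hct', pullback.lift_fst_assoc, hit', het', Category.comp_id]
        · simp only [Category.assoc, hcs', pullback.lift_snd_assoc, hes', Category.comp_id] }
  have hmj : Mono G.j := ⟨fun {T} g h e => left_ext sq
    (by have e1 := congrArg (· ≫ pullback.fst G.pU G.pU) e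
        simp only [Grpd.GroupoidScheme.j, G, Category.assoc, pullback.lift_fst] at e1; exact e1)
    (by have e1 := congrArg (· ≫ pullback.snd G.pU G.pU) e
        simp only [Grpd.GroupoidScheme.j, G, Category.assoc, pullback.lift_snd] at e1; exact e1)⟩
  haveI : IsFinite G.s := ‹IsFinite s.left›
  haveI : Flat G.s := show Flat s.left from inferInstance
  haveI : LocallyOfFinitePresentation G.s := show LocallyOfFinitePresentation s.left from inferInstance
  obtain ⟨Y, p, hq, -, -, -, hmono, -⟩ := GrpdLib.exists_quotient G fun x => by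
    obtain ⟨V, hV, h⟩ := hb x
    refine ⟨V, hV, ?_⟩
    rintro y ⟨r, hr, rfl⟩
    exact h r hr
  obtain ⟨hpb, _, _, _⟩ := hmono hmj
  obtain ⟨π, hπ, -⟩ := hq.existsUnique_desc G G.pU ((Over.w t).trans (Over.w s).symm)
  let M : Over S := Over.mk π
  let m : U ⟶ M := Over.homMk p hπ
  haveI : Flat m.left := ‹Flat p›
  haveI : LocallyOfFinitePresentation m.left := ‹LocallyOfFinitePresentation p›
  haveI : Surjective m.left := ⟨hq.surj⟩
  haveI hls : Sheaf.IsLocallySurjective ((yon S).map m) := isLocallySurjective_yon_map m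
  have sqM : IsPullback ((yon S).map t) ((yon S).map s) ((yon S).map m) ((yon S).map m) :=
    IsPullback.map (yon S) (IsPullback.of_map (Over.forget S) (h := m) (i := m)
      (show t ≫ m = s ≫ m from Over.OverMorphism.ext hpb.w) hpb)
  obtain ⟨y, hy⟩ := exists_desc ((yon S).map m) a fun T b b' h => by
    obtain ⟨r, h1, h2⟩ : ∃ r, r ≫ (yon S).map t = b ∧ r ≫ (yon S).map s = b' :=
      ⟨_, sqM.lift_fst b b' h, sqM.lift_snd b b' h⟩
    rw [← h1, ← h2, Category.assoc, Category.assoc, sq.w]
  obtain ⟨y', hy'⟩ := exists_desc a ((yon S).map m) fun T b b' h => by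
    obtain ⟨r, h1, h2⟩ : ∃ r, r ≫ (yon S).map t = b ∧ r ≫ (yon S).map s = b' :=
      ⟨_, sq.lift_fst b b' h, sq.lift_snd b b' h⟩
    rw [← h1, ← h2, Category.assoc, Category.assoc, sqM.w]
  haveI : Epi ((yon S).map m) := (Sheaf.isLocallySurjective_iff_epi _).mp hls
  haveI : Epi a := (Sheaf.isLocallySurjective_iff_epi _).mp inferInstance
  exact ⟨M, ⟨{
    hom := y
    inv := y'
    hom_inv_id := by rw [← cancel_epi ((yon S).map m), reassoc_of% hy, hy', Category.comp_id]
    inv_hom_id := by rw [← cancel_epi a, reassoc_of% hy', hy, Category.comp_id] }⟩⟩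

theorem isClosedMap_of_finLocFree {F G : Sp S} (hF : IsAlgSpace F) (hG : IsAlgSpace G) {f : F ⟶ G}
    (hf : IsFinLocFreeMor f) : IsClosedMap (Points.map f) :=
  isClosedMap_of_isUnivClosedMor hG ((isUnivClosedMor_iff_repWith hF hG hf.rep).1
    (repWith_mono (fun _ _ g (hg : Mor2.IsFinLocFree g) => by
      haveI : IsFinite g := hg.1
      exact (inferInstance : UniversallyClosed g)) hf))

theorem mem_schemeLocus_of_finLocFree {F G : Sp S} (hF : IsAlgSpace F) (hG : IsAlgSpace G) {f : F ⟶ G}
    (hf : IsFinLocFreeMor f) (hs : RepWith @Surjective f) {V : Over S} [IsAffine V.left]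
    {j : (yon S).obj V ⟶ F} (hj : RepWith @IsOpenImmersion j) (y : Points G)
    (hy : Points.map f ⁻¹' {y} ⊆ Set.range (Points.ofPt j)) : y ∈ schemeLocus G := by
  let C : Set (Points F) := (Set.range (Points.ofPt j))ᶜ
  have hje : RepWith @Etale j := repWith_mono (fun _ _ g (h : IsOpenImmersion g) => (inferInstance : Etale g)) hj
  haveI := mono_of_openImmersion hj
  let Ω : Set (Points G) := (Points.map f '' C)ᶜ
  have hΩ : IsOpen Ω := ((isClosedMap_of_finLocFree hF hG hf) _ (isOpenMap_ofPt hje).isOpen_range.isClosed_compl).isOpen_compl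
  have hyΩ : y ∈ Ω := fun ⟨z, hz, e⟩ => hz (hy e)
  refine Set.subset_sUnion_of_mem (show Ω ∈ {Ω | IsOpen Ω ∧ IsRepSh (openSub G Ω)} from ⟨hΩ, ?_⟩) hyΩ
  let O : V.left.Opens := ⟨Points.ofPt (j ≫ f) ⁻¹' Ω, hΩ.preimage (Points.continuous_ofPt _)⟩
  let W : Over S := Over.mk (O.ι ≫ V.hom)
  let o : W ⟶ V := Over.homMk O.ι rfl
  let j₁ := (yon S).map o ≫ j
  have hj₁ : RepWith @IsOpenImmersion j₁ := repWith_comp
    ((repWith_yon_map_iff (@IsOpenImmersion : MorphismProperty Scheme.{u}) o).2 (inferInstanceAs (IsOpenImmersion O.ι))) hj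
  haveI := mono_of_openImmersion hj₁
  obtain ⟨l, hl⟩ := (exists_lift_openSub (W := Ω) (j₁ ≫ f)).2 fun w => by
    rw [Category.assoc, ofPt_yon_comp]
    exact w.2
  have sq1 : IsPullback l j₁ (openSubι G Ω) f := isPullback_of_forall_existsUnique hl fun T c b hcb => by
    obtain ⟨g, hg⟩ := (exists_factor_iff hj₁ b).2 (by
      rintro _ ⟨r, rfl⟩
      have h1 : Points.map f (Points.map b r) ∈ Ω := by
        rw [← Points.map_comp, ← hcb, Points.map_comp]
        exact (range_openSubι G).le ⟨_, rfl⟩
      obtain ⟨v, hv⟩ : Points.map b r ∈ Set.range (Points.ofPt j) := by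
        by_contra h
        exact h1 ⟨_, h, rfl⟩
      have hvO : v ∈ O := by
        show Points.ofPt (j ≫ f) v ∈ Ω
        rw [← Points.map_ofPt, hv]; exact h1
      rw [← range_ofPt]
      exact ⟨⟨v, hvO⟩, (ofPt_yon_comp o j _).trans hv⟩)
    refine ⟨g, ⟨?_, hg⟩, fun g' hg' => ?_⟩
    · rw [← cancel_mono (openSubι G Ω), Category.assoc, hl, ← Category.assoc, hg, hcb]
    · rw [← cancel_mono j₁, hg'.2, hg]
  have hlf : RepWith finLocFree l := repWith_of_isPullback sq1.flip hf
  have hls : RepWith @Surjective l := repWith_of_isPullback sq1.flip hs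
  haveI : Sheaf.IsLocallySurjective l := isLocallySurjective_of_repWith
    (repWith_mono (fun _ _ g (hg : Mor2.IsFinLocFree g) => (hg.2.1 : Flat g)) hlf)
    (repWith_mono (fun _ _ g (hg : Mor2.IsFinLocFree g) => (hg.2.2 : LocallyOfFinitePresentation g)) hlf) hls
  obtain ⟨R, t, s, sq⟩ := exists_isPullback_yon l l hlf.rep
  have hsf : Mor2.IsFinLocFree s.left := (repWith_yon_map_iff (P := finLocFree.{u}) s).1 (repWith_of_isPullback sq hlf)
  haveI : IsFinite s.left := hsf.1
  haveI : Flat s.left := hsf.2.1
  haveI : LocallyOfFinitePresentation s.left := hsf.2.2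
  refine isRepSh_of_finLocFree_relation sq fun u => ?_
  have hfin : (t.left '' (s.left ⁻¹' {u})).Finite := (s.left.finite_preimage_singleton u).image _
  obtain ⟨g, hgF, hgO⟩ := exists_basicOpen_of_finite O (hfin.image o.left) (by rintro _ ⟨w, -, rfl⟩; exact w.2)
  refine ⟨O.ι ⁻¹ᵁ V.left.basicOpen g, ((isAffineOpen_top V.left).basicOpen g).preimage_of_isOpenImmersion O.ι
    (by simpa using hgO), fun r hr => hgF ⟨_, ⟨r, hr, rfl⟩, rfl⟩⟩

end AlgSpFieldLib
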