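import Groth.Agent.AlgSpFieldLib.Insep
import Groth.Agent.AlgSpFieldLib.Reduced
import Groth.Agent.AlgSpFieldLib.SchematicFinite
import Mathlib.AlgebraicGeometry.AlgClosed.Basic

/-!
# Descent of scheme nature from an algebraic closure
-/

set_option autoImplicit false
set_option linter.style.haveILetI false
set_option backward.isDefEq.respectTransparency false
set_option backward.isDefEq.respectTransparency.types false

universe u

open CategoryTheory CategoryTheory.Limits AlgebraicGeometry TopologicalSpace Opposite Topology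
open AlgSp AlgSpLib SpectralQuot

noncomputable section

namespace AlgSpFieldLib

variable {k : Type u} [Field k] {K L : Type u} [Field K] [Algebra k K] [Field L] [Algebra k L]

theorem isPullback_fst_terminal (F : Sp (B k)) (K : Type u) [Field K] [Algebra k K] :
    IsPullback (prod.fst : F ⨯ (yon (B k)).obj (Ext k K) ⟶ F) prod.snd
      (((Over.mkIdTerminal (X := B k)).isTerminalObj (yon (B k)) _).from F)
      ((yon (B k)).map (Over.homMk (Spec.map (CommRingCat.ofHom (algebraMap k K))) (by simp) :
        Ext k K ⟶ Over.mk (𝟙 (B k)))) := by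
  let t : IsTerminal ((yon (B k)).obj (Over.mk (𝟙 (B k)))) :=
    (Over.mkIdTerminal (X := B k)).isTerminalObj (yon (B k)) _
  rw [t.hom_ext ((yon (B k)).map _) (t.from _)]
  exact IsPullback.of_is_product' (prodIsProd F ((yon (B k)).obj (Ext k K))) t

theorem isFinLocFreeMor_fst [FiniteDimensional k L] (F : Sp (B k)) :
    IsFinLocFreeMor (prod.fst : F ⨯ (yon (B k)).obj (Ext k L) ⟶ F) := by
  refine repWith_of_isPullback (P := finLocFree.{u}) (isPullback_fst_terminal F L).flip ?_
  refine (repWith_yon_map_iff (P := finLocFree.{u}) _).2 ?_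
  show Mor2.IsFinLocFree (Spec.map (CommRingCat.ofHom (algebraMap k L)))
  haveI : IsFinite (Spec.map (CommRingCat.ofHom (algebraMap k L))) :=
    (IsFinite.SpecMap_iff (f := CommRingCat.ofHom (algebraMap k L))).2 (RingHom.finite_algebraMap.2 inferInstance)
  haveI : IsLocallyNoetherian (Spec (CommRingCat.of k)) := inferInstance
  exact ⟨inferInstance, inferInstance, inferInstance⟩

theorem repWith_surjective_fst (F : Sp (B k)) :
    RepWith @Surjective (prod.fst : F ⨯ (yon (B k)).obj (Ext k L) ⟶ F) :=
  (repWith_surjective_iff (representable_fst F _)).2 (surjective_fst F)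

/-- An affine open of `X_K` comes from an affine open over any level saturating it. -/
theorem exists_affine_descend {F : Sp (B k)} (hF : IsAlgSpace F) (φ : L →ₐ[k] K) {O : Over (B k)} [IsAffine O.left]
    {j₁ : (yon (B k)).obj O ⟶ F ⨯ (yon (B k)).obj (Ext k K)} (hj : RepWith @IsOpenImmersion j₁)
    (hsat : bcMap (extHom φ) ⁻¹' (bcMap (extHom φ) '' Set.range (Points.ofPt j₁)) = Set.range (Points.ofPt j₁)) :
    ∃ (W : Over (B k)) (j : (yon (B k)).obj W ⟶ F ⨯ (yon (B k)).obj (Ext k L)), IsAffine W.left ∧
      RepWith @IsOpenImmersion j ∧ Set.range (Points.ofPt j) = bcMap (extHom φ) '' Set.range (Points.ofPt j₁) := by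
  let G := F ⨯ (yon (B k)).obj (Ext k L)
  let g : Ext k K ⟶ Ext k L := extHom φ
  let π : F ⨯ (yon (B k)).obj (Ext k K) ⟶ G := prod.map (𝟙 F) ((yon (B k)).map g)
  let Ω : Set (Points G) := Points.map π '' Set.range (Points.ofPt j₁)
  have hje : RepWith @Etale j₁ := repWith_mono (fun _ _ f (h : IsOpenImmersion f) => (inferInstance : Etale f)) hj
  have hΩ : IsOpen Ω := isOpenMap_bc hF g _ (isOpenMap_ofPt hje).isOpen_range
  haveI := mono_of_openImmersion hj
  obtain ⟨l, hl⟩ := (exists_factor_iff (repWith_openSubι G hΩ) (j₁ ≫ π)).2 (by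
    rw [range_openSubι]
    rintro _ ⟨y, rfl⟩
    exact ⟨Points.map j₁ y, by rw [range_ofPt]; exact ⟨y, rfl⟩, (Points.map_comp _ _ _).symm⟩)
  have sq1 : IsPullback l j₁ (openSubι G Ω) π := isPullback_of_forall_existsUnique hl fun R a b hab => by
    obtain ⟨h, hh⟩ := (exists_factor_iff hj b).2 (by
      rintro _ ⟨r, rfl⟩
      have h1 : Points.map b r ∈ Points.map π ⁻¹' Ω := by
        show Points.map π (Points.map b r) ∈ Ω
        rw [← Points.map_comp, ← hab, Points.map_comp]
        exact (range_openSubι G).le ⟨_, rfl⟩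
      rw [← range_ofPt]
      exact hsat.le h1)
    refine ⟨h, ⟨?_, hh⟩, fun g' hg' => ?_⟩
    · rw [← cancel_mono (openSubι G Ω), Category.assoc, hl, ← Category.assoc, hh, hab]
    · rw [← cancel_mono j₁, hg'.2, hh]
  obtain ⟨pW, hpW⟩ := (yon (B k)).map_surjective (j₁ ≫ prod.snd)
  have sq : IsPullback l ((yon (B k)).map pW) (openSubι G Ω ≫ prod.snd) ((yon (B k)).map g) := by
    rw [hpW]; exact sq1.paste_vert (isPullback_snd_map ((yon (B k)).map g))
  haveI : IsAffine (Ext k L).left := inferInstanceAs (IsAffine (Spec (CommRingCat.of L)))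
  haveI : IsAffine (Ext k K).left := inferInstanceAs (IsAffine (Spec (CommRingCat.of K)))
  haveI : Flat g.left := by
    show Flat (Spec.map (CommRingCat.ofHom φ.toRingHom))
    letI := φ.toRingHom.toAlgebra
    exact inferInstanceAs (Flat (Spec.map (CommRingCat.ofHom (algebraMap L K))))
  haveI : Surjective g.left := ⟨fun y => ⟨IsLocalRing.closedPoint K, Subsingleton.elim (α := PrimeSpectrum L) _ y⟩⟩
  obtain ⟨W₁, -, e₁, hW₁, -⟩ := exists_affine_of_fpqc_base (isAlgSpace_openSub (isAlgSpace_of_representable hF prod.fst (representable_fst F (Ext k L))) hΩ) sq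
  refine ⟨W₁, e₁.hom ≫ openSubι G Ω, hW₁, MorphismProperty.RespectsIso.precomp _ _ _ (repWith_openSubι G hΩ), ?_⟩
  rw [range_ofPt]
  refine Eq.trans ?_ (range_openSubι G (W := Ω))
  ext z
  constructor
  · rintro ⟨y, rfl⟩; exact ⟨Points.map e₁.hom y, (Points.map_comp _ _ _).symm⟩
  · rintro ⟨y, rfl⟩
    exact ⟨Points.map e₁.inv y, by rw [← Points.map_comp, Iso.inv_hom_id_assoc]⟩

/-- Closed points of charts are schematic when finitely many rational points lie in affine opens. -/
theorem isRepSh_of_rational_affines [Algebra.IsAlgebraic k K] [IsAlgClosed K] {X : Sp (B k)} (hX : IsAlgSpace X)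
    (p : X ⟶ (yon (B k)).obj (Over.mk (𝟙 _))) (hp : LocP @LocallyOfFiniteType p)
    {T : Over (B k)} (e : (yon (B k)).obj T ≅ X ⨯ (yon (B k)).obj (Ext k K)) (q : T ⟶ Ext k K)
    (hq : (yon (B k)).map q = e.hom ≫ prod.snd)
    (h3 : ∀ s : Finset ↥T.left,
      (∀ t ∈ s, ∃ σ : Spec (CommRingCat.of K) ⟶ T.left, σ ≫ q.left = 𝟙 _ ∧ σ (IsLocalRing.closedPoint K) = t) →
        ∃ W : T.left.Opens, IsAffineOpen W ∧ ∀ t ∈ s, t ∈ W) : IsRepSh X := by
  classical
  obtain ⟨U, a, ha, has⟩ := hX.atlas
  obtain ⟨h0, hh0⟩ := (yon (B k)).map_surjective (a ≫ p)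
  have hft := hp a (𝟙 _) h0 ha (repWith_id _ _) (by rw [hh0, Category.comp_id])
  have eh : h0.left = U.hom := by simpa using Over.w h0
  haveI : LocallyOfFiniteType U.hom := eh ▸ hft
  haveI : JacobsonSpace (B k) := inferInstanceAs (JacobsonSpace (Spec (CommRingCat.of k)))
  haveI : JacobsonSpace U.left := LocallyOfFiniteType.jacobsonSpace U.hom
  let P : Over (B k) := U ⨯ Ext k K
  let f : P.left ⟶ Spec (CommRingCat.of K) := (prod.snd : P ⟶ Ext k K).left
  let qU : P.left ⟶ U.left := (prod.fst : P ⟶ U).left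
  haveI : LocallyOfFiniteType f :=
    MorphismProperty.of_isPullback (P := @LocallyOfFiniteType) (isPullback_prod_left U (Ext k K)) inferInstance
  let c := prodChart (S := B k) a (𝟙 ((yon (B k)).obj (Ext k K)))
  obtain ⟨ψ, hψ⟩ := (yon (B k)).map_surjective (c ≫ e.inv)
  have hψq : ψ ≫ q = prod.snd := (yon (B k)).map_injective (by
    rw [Functor.map_comp, hψ, hq, Category.assoc, Iso.inv_hom_id_assoc, prodChart_snd, Category.comp_id])
  have hclosed : ∀ v : U.left, IsClosed ({v} : Set U.left) → Points.ofPt a v ∈ schemeLocus X := by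
    intro v hv
    haveI : IsClosedImmersion (U.left.fromSpecResidueField v) := isClosed_singleton_iff_isClosedImmersion.mp hv
    let r := U.left.fromSpecResidueField v ≫ U.hom
    haveI : IsFinite r := by
      haveI : LocallyQuasiFinite r := LocallyQuasiFinite.of_finite_preimage_singleton r fun _ => Set.toFinite _
      exact IsFinite.of_locallyQuasiFinite r
    let g := (Ext k K).hom
    let sqP := isPullback_prod_left U (Ext k K)
    let Q := pullback r g
    let m : Q ⟶ P.left := sqP.lift (pullback.fst r g ≫ U.left.fromSpecResidueField v) (pullback.snd r g)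
      (by rw [Category.assoc]; exact pullback.condition)
    have hm1 : m ≫ qU = pullback.fst r g ≫ U.left.fromSpecResidueField v := sqP.lift_fst _ _ _
    have hm2 : m ≫ f = pullback.snd r g := sqP.lift_snd _ _ _
    have sqm : IsPullback m (pullback.fst r g) qU (U.left.fromSpecResidueField v) :=
      (IsPullback.of_bot (v₂₁ := f) (v₂₂ := U.hom) (h₃₁ := g) (by rw [hm2]; exact IsPullback.of_hasPullback r g)
        hm1.symm sqP).flip
    haveI : IsClosedImmersion m := MorphismProperty.of_isPullback (P := @IsClosedImmersion) sqm.flip inferInstance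
    haveI : IsFinite (pullback.snd r g) := MorphismProperty.pullback_snd _ _ inferInstance
    haveI : IsLocallyArtinian (Ext k K).left := inferInstanceAs (IsLocallyArtinian (Spec (CommRingCat.of K)))
    haveI : IsLocallyArtinian Q := IsLocallyArtinian.of_locallyQuasiFinite (pullback.snd r g)
    haveI : CompactSpace Q := QuasiCompact.compactSpace_of_compactSpace (pullback.snd r g)
    haveI : Finite Q := finite_of_compact_of_discrete
    have hfib : ∀ w : P.left, qU w = v → w ∈ Set.range m := fun w hw => by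
      obtain ⟨w', h1, -⟩ := AlgebraicGeometry.Scheme.exists_preimage_of_isPullback sqm w (IsLocalRing.closedPoint _)
        (by rw [hw, Scheme.fromSpecResidueField_apply])
      exact ⟨w', h1⟩
    have hrat : ∀ w ∈ Set.range m, ∃ σ : Spec (CommRingCat.of K) ⟶ T.left,
        σ ≫ q.left = 𝟙 _ ∧ σ (IsLocalRing.closedPoint K) = ψ.left w := by
      rintro _ ⟨z, rfl⟩
      have hcl : IsClosed ({m z} : Set P.left) := by
        rw [← Set.image_singleton]; exact m.isClosedEmbedding.isClosedMap _ (isClosed_discrete _)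
      refine ⟨pointOfClosedPoint f (m z) hcl ≫ ψ.left, ?_, ?_⟩
      · rw [Category.assoc, ← Over.comp_left, hψq]; exact pointOfClosedPoint_comp f _ hcl
      · rw [Scheme.Hom.comp_apply, pointOfClosedPoint_apply]
    let s : Finset T.left := ((Set.finite_range m).image ψ.left).toFinset
    obtain ⟨W, hW, hsW⟩ := h3 s fun t ht => by
      obtain ⟨w, hw, rfl⟩ := (Set.Finite.mem_toFinset _).1 ht
      exact hrat w hw
    let O : Over (B k) := Over.mk (W.ι ≫ T.hom)
    haveI : IsAffine O.left := hW
    let o : O ⟶ T := Over.homMk W.ι rfl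
    let j₁ := (yon (B k)).map o ≫ e.hom
    have hj : RepWith @IsOpenImmersion j₁ := MorphismProperty.RespectsIso.postcomp _ _ _
      ((repWith_yon_map_iff (@IsOpenImmersion : MorphismProperty Scheme.{u}) o).2 (inferInstanceAs (IsOpenImmersion W.ι)))
    have hje : RepWith @Etale j₁ := repWith_mono (fun _ _ f (h : IsOpenImmersion f) => (inferInstance : Etale f)) hj
    haveI : CompactSpace O.left := inferInstance
    have hqc : IsCompact (Set.range (Points.ofPt j₁)) := isCompact_range (Points.continuous_ofPt j₁)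
    obtain ⟨S, hS⟩ := exists_level hX (isOpenMap_ofPt hje).isOpen_range hqc
    let L := ConnBC.lev (k := k) K S
    haveI : FiniteDimensional k L :=
      IntermediateField.finiteDimensional_adjoin fun x _ => (Algebra.IsAlgebraic.isAlgebraic x).isIntegral
    obtain ⟨W₁, j, hW₁, hjo, hjr⟩ := exists_affine_descend hX L.val hj hS
    refine mem_schemeLocus_of_finLocFree (isAlgSpace_of_representable hX prod.fst
        (representable_fst X (Ext k L)))
      hX (isFinLocFreeMor_fst X) (repWith_surjective_fst X) hjo _ fun z' hz' => ?_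
    obtain ⟨z, rfl⟩ := surjective_bc (F := X) (extHom L.val) z'
    rw [hjr]
    refine ⟨z, ?_, rfl⟩
    have hz : Points.map prod.fst z = Points.ofPt a v := (map_fst_bcMap (extHom L.val) z).symm.trans hz'
    let l : U ⟶ U ⨯ Ext k k := prod.lift (𝟙 U) ((isTerminalExt k).from U)
    have hlv : (prod.fst : U ⨯ Ext k k ⟶ U).left (l.left v) = v := by
      rw [← Scheme.Hom.comp_apply, ← Over.comp_left, prod.lift_fst]; rfl
    have h0' : Points.ofPt (prodChart (S := B k) a (𝟙 ((yon (B k)).obj (Ext k k)))) (l.left v) =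
        bcMap (extHom (Algebra.ofId k K)) z := by
      refine (bijective_fst X).1 ?_
      rw [map_fst_bcMap, hz, Points.map_ofPt, prodChart_fst, ofPt_yon_comp, hlv]
    obtain ⟨w, hw, rfl⟩ := exists_lift_point (extHom (Algebra.ofId k K)) z (l.left v) h0'.symm
    have hwv : qU w = v := by
      rw [← hlv, ← hw, ← Scheme.Hom.comp_apply, ← Over.comp_left, prod.map_fst, Category.comp_id]
    have hmem : ψ.left w ∈ W := hsW _ ((Set.Finite.mem_toFinset _).2 ⟨w, hfib w hwv, rfl⟩)
    refine ⟨⟨_, hmem⟩, ?_⟩
    show Points.ofPt ((yon (B k)).map o ≫ e.hom) _ = Points.ofPt c w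
    rw [ofPt_yon_comp, show c = (yon (B k)).map ψ ≫ e.hom from by rw [hψ, Category.assoc, Iso.inv_hom_id, Category.comp_id],
      ofPt_yon_comp]
    rfl
  have hall : ∀ x : Points X, x ∈ schemeLocus X := by
    intro x
    obtain ⟨u, rfl⟩ := surjective_ofPt has x
    by_contra hne
    obtain ⟨v, hv, hvc⟩ := nonempty_inter_closedPoints (Z := (Points.ofPt a ⁻¹' schemeLocus X)ᶜ) ⟨u, hne⟩
      ((isOpen_schemeLocus X).preimage (Points.continuous_ofPt a)).isClosed_compl.isLocallyClosed
    exact hv (hclosed v hvc)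
  haveI := isIso_of_openImmersion_surjective (repWith_openSubι X (isOpen_schemeLocus X)) fun x => by
    rw [← Set.mem_range, range_openSubι]; exact hall x
  exact (isRepSh_schemeLocus hX).of_iso (asIso (openSubι X (schemeLocus X)))

end AlgSpFieldLib
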