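import Groth.Agent.AlgSpFieldLib.GrpTranslate
import Mathlib.Algebra.BigOperators.Fin

/-!
# Schematic base changes to purely transcendental extensions descend
-/

set_option autoImplicit false
set_option linter.style.haveILetI false
set_option backward.isDefEq.respectTransparency false
set_option backward.isDefEq.respectTransparency.types false
set_option maxHeartbeats 400000
set_option synthInstance.maxHeartbeats 100000

universe u

open CategoryTheory CategoryTheory.Limits AlgebraicGeometry TopologicalSpace Opposite Topology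
open AlgSp AlgSpLib Groth.Agent.MonoPtLib SpectralQuot
open scoped TensorProduct

noncomputable section

namespace AlgSpFieldLib

variable {k : Type u} [Field k] {L M : Type u} [Field L] [Field M] [Algebra k L] [Algebra k M]

/-- The spectrum of an algebra over the base field. -/
abbrev SpA (k : Type u) [Field k] (A : Type u) [CommRing A] [Algebra k A] : Over (B k) :=
  Over.mk (Spec.map (CommRingCat.ofHom (algebraMap k A)))

/-- The morphism of spectra attached to an algebra map. -/
abbrev spaHom {A A' : Type u} [CommRing A] [Algebra k A] [CommRing A'] [Algebra k A'] (φ : A →ₐ[k] A') :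
    SpA k A' ⟶ SpA k A :=
  Over.homMk (Spec.map (CommRingCat.ofHom φ.toRingHom)) (by
    show Spec.map _ ≫ Spec.map _ = Spec.map _
    rw [← Spec.map_comp, ← CommRingCat.ofHom_comp,
      show φ.toRingHom.comp (algebraMap k A) = algebraMap k A' from φ.comp_algebraMap])

theorem exists_stage_affine [Algebra L M] [IsScalarTower k L M] {O : Sp (B k)} (hO : IsAlgSpace O)
    (hqc : IsQuasiCompactSp O) (hqs : IsQuasiSeparatedSp O) (V : Over (B k)) [IsAffine V.left]
    (j : (yon (B k)).obj V ⟶ O ⨯ (yon (B k)).obj (Ext k M)) (hj : RepWith @IsOpenImmersion j)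
    (z : Points (O ⨯ (yon (B k)).obj (Ext k M))) (hz : z ∈ Set.range (Points.map j)) :
    ∃ (A : ConsLib.FGSub L M) (V' : Over (B k)) (_ : IsAffine V'.left)
      (a : (yon (B k)).obj V' ⟶ O ⨯ (yon (B k)).obj (SpA k A.1)), RepWith @IsOpenImmersion a ∧
      Points.map (prod.map (𝟙 O) ((yon (B k)).map (spaHom (A.1.val.restrictScalars k)))) z ∈ Set.range (Points.map a) := by
  classical
  let J := (ConsLib.FGSub L M)ᵒᵖ
  let sys := ConsLib.fgSys L M (Iso.refl (Spec (CommRingCat.of L)))
  let N : J ⥤ Over (B k) :=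
    { obj := fun j => Over.mk (Spec.map (CommRingCat.ofHom (algebraMap k j.unop.1)))
      map := fun {i j} φ => Over.homMk (sys.D.map φ) (by
        show Spec.map ((ConsLib.fgDiag L M).map φ.unop) ≫ Spec.map _ = Spec.map _
        rw [← Spec.map_comp]
        rfl)
      map_id := fun j => Over.OverMorphism.ext (sys.D.map_id j)
      map_comp := fun φ ψ => Over.OverMorphism.ext (sys.D.map_comp φ ψ) }
  let cN : Cone N :=
    { pt := Ext k M
      π :=
        { app := fun j => Over.homMk (sys.c.π.app j) (by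
            show Spec.map (CommRingCat.ofHom j.unop.1.val.toRingHom) ≫ Spec.map _ = Spec.map _
            rw [← Spec.map_comp, ← CommRingCat.ofHom_comp]
            rfl)
          naturality := fun i j φ => Over.OverMorphism.ext (sys.c.π.naturality φ) } }
  let co : ∀ s : Cone N, Cone sys.D := fun s =>
    { pt := s.pt.left
      π := { app := fun j => (s.π.app j).left
             naturality := fun i j φ => by
              show 𝟙 _ ≫ (s.π.app j).left = (s.π.app i).left ≫ sys.D.map φ
              rw [Category.id_comp]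
              exact congrArg CommaMorphism.left (s.w φ).symm } }
  let j₀ : J := op ⟨⊥, Subalgebra.fg_bot⟩
  have hcN : IsLimit cN :=
    { lift := fun s => Over.homMk (sys.hc.lift (co s)) (by
        exact (congrArg (fun m : cN.pt.left ⟶ B k => sys.hc.lift (co s) ≫ m) (Over.w (cN.π.app j₀)).symm).trans
          ((Category.assoc _ _ _).symm.trans ((congrArg (fun m : s.pt.left ⟶ (N.obj j₀).left => m ≫ (N.obj j₀).hom)
            (sys.hc.fac (co s) j₀)).trans (Over.w (s.π.app j₀)))))
      fac := fun s j => Over.OverMorphism.ext (sys.hc.fac (co s) j)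
      uniq := fun s m hm => Over.OverMorphism.ext (sys.hc.uniq (co s) m.left fun j =>
        congrArg CommaMorphism.left (hm j)) }
  have hyN := isLimitOfPreserves (yon (B k)) hcN
  haveI : ∀ i : J, IsAffine (N.obj i).left := fun i => inferInstanceAs (IsAffine (Spec (CommRingCat.of i.unop.1)))
  let D : J ⥤ Sp (B k) :=
    { obj := fun i => O ⨯ (yon (B k)).obj (N.obj i)
      map := fun φ => prod.map (𝟙 O) ((yon (B k)).map (N.map φ))
      map_id := fun i => by simp
      map_comp := fun φ ψ => by simp }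
  let c : Cone D :=
    { pt := O ⨯ (yon (B k)).obj (Ext k M)
      π :=
        { app := fun i => prod.map (𝟙 O) ((yon (B k)).map (cN.π.app i))
          naturality := fun i i' φ => by
            show 𝟙 _ ≫ prod.map _ _ = prod.map _ _ ≫ prod.map _ _
            rw [Category.id_comp, prod.map_map, ← Functor.map_comp, cN.w, Category.comp_id] } }
  let sy : ∀ s : Cone D, Cone (N ⋙ yon (B k)) := fun s =>
    { pt := s.pt
      π := { app := fun i => s.π.app i ≫ prod.snd
             naturality := fun i i' φ => by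
              show 𝟙 _ ≫ s.π.app i' ≫ prod.snd = (s.π.app i ≫ prod.snd) ≫ (yon (B k)).map (N.map φ)
              rw [Category.id_comp, ← s.w φ, Category.assoc, Category.assoc, prod.map_snd] } }
  have hfst : ∀ (s : Cone D) (i i' : J), s.π.app i ≫ prod.fst = s.π.app i' ≫ prod.fst := fun s i i' => by
    have h : ∀ {a b : J} (φ : a ⟶ b), s.π.app b ≫ prod.fst = s.π.app a ≫ prod.fst := fun {a b} φ => by
      rw [← s.w φ, Category.assoc, prod.map_fst, Category.comp_id]
    exact (h (IsCofiltered.minToLeft i i')).trans (h (IsCofiltered.minToRight i i')).symm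
  have hc : IsLimit c :=
    { lift := fun s => prod.lift (s.π.app j₀ ≫ prod.fst) (hyN.lift (sy s))
      fac := fun s i => by
        apply Limits.prod.hom_ext
        · show (prod.lift _ _ ≫ prod.map _ _) ≫ _ = _
          rw [Category.assoc, prod.map_fst, Category.comp_id, prod.lift_fst]
          exact hfst s j₀ i
        · show (prod.lift _ _ ≫ prod.map _ _) ≫ _ = _
          rw [Category.assoc, prod.map_snd, prod.lift_snd_assoc]
          exact hyN.fac (sy s) i
      uniq := fun s m hm => by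
        apply Limits.prod.hom_ext
        · rw [prod.lift_fst, ← hm j₀]
          show _ = (m ≫ prod.map _ _) ≫ _
          rw [Category.assoc, prod.map_fst, Category.comp_id]
        · rw [prod.lift_snd]
          refine hyN.uniq (sy s) (m ≫ prod.snd) fun i => ?_
          show (m ≫ prod.snd) ≫ _ = s.π.app i ≫ prod.snd
          rw [← hm i]
          show _ = (m ≫ prod.map _ _) ≫ _
          rw [Category.assoc, Category.assoc, prod.map_snd]
          rfl }
  have hDA : ∀ i, IsAlgSpace (D.obj i) := fun i =>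
    AlgSpLib.isAlgSpace_of_representable hO prod.fst (representable_fst O (N.obj i))
  obtain ⟨i, V', hV', a, qv, ha, sq⟩ := exists_affine_open_stage D hDA
    (fun i i' φ => AlgSpLib.isAffineMor_iff.2 (repWith_bcMap_affine O (N.map φ)))
    (fun i => AlgSpLib.isQuasiCompactSp_of_mor hO
      (AlgSpLib.isQuasiCompactMor_of_repWith (hDA i) hO
        (AlgSpLib.repWith_mono (fun _ _ g (_ : IsAffineHom g) => (inferInstance : QuasiCompact g))
          (repWith_fst_affine O (N.obj i)))) hqc)
    (fun i => AlgSpLib.isQuasiSeparatedSp_of_mor (AlgSpLib.isQuasiSeparatedMor_of_isSeparatedMor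
      (AlgSpLib.isSeparatedMor_of_repWith
        (AlgSpLib.repWith_mono (fun _ _ g (_ : IsAffineHom g) => (inferInstance : IsSeparated g))
          (repWith_fst_affine O (N.obj i))))) hqs)
    c hc V inferInstance j hj
  obtain ⟨w₀, rfl⟩ := hz
  refine ⟨i.unop, V', hV', a, ha, Points.map qv w₀, ?_⟩
  rw [← Points.map_comp, ← sq.w, Points.map_comp]
  rfl

theorem isRepSh_of_schemeLocus {X : Sp (B k)} (hX : IsAlgSpace X) (h : ∀ x, x ∈ schemeLocus X) : IsRepSh X := by
  haveI := isIso_of_openImmersion_surjective (repWith_openSubι X (isOpen_schemeLocus X)) fun x => by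
    rw [← Set.mem_range, range_openSubι]; exact h x
  exact (isRepSh_schemeLocus hX).of_iso (asIso (openSubι X (schemeLocus X)))

open Polynomial in
/-- Weights separating the monomials of a polynomial. -/
theorem exists_weight {σ : Type*} {R : Type*} [CommRing R] {F : MvPolynomial σ R} (hF : F ≠ 0) :
    ∃ w : σ → ℕ, MvPolynomial.aeval (fun i => (X : Polynomial R) ^ w i) F ≠ 0 := by
  classical
  let n := F.vars.card
  let e : F.vars ≃ Fin n := F.vars.equivFin
  let N := F.totalDegree + 1
  let w : σ → ℕ := fun i => if h : i ∈ F.vars then N ^ (e ⟨i, h⟩).1 else 0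
  refine ⟨w, fun h0 => ?_⟩
  obtain ⟨d, hd⟩ := MvPolynomial.support_nonempty.2 hF
  have hb : ∀ d ∈ F.support, ∀ i, d i < N := fun d hd i => by
    refine Nat.lt_succ_of_le (le_trans ?_ (MvPolynomial.le_totalDegree hd))
    by_cases hi : i ∈ d.support
    · exact Finset.single_le_sum (f := fun j => d j) (fun j _ => Nat.zero_le _) hi
    · simp [Finsupp.notMem_support_iff.1 hi]
  have hw : ∀ d (hd : d ∈ F.support), ∑ i ∈ d.support, w i * d i =
      (finFunctionFinEquiv (fun j : Fin n => (⟨d (e.symm j).1, hb d hd _⟩ : Fin N))).1 := fun d hd => by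
    rw [finFunctionFinEquiv_apply, ← e.sum_comp, Finset.sum_subset (s₂ := F.vars)
      (fun i hi => MvPolynomial.mem_vars i |>.2 ⟨d, hd, hi⟩) (fun i _ hi => by simp [Finsupp.notMem_support_iff.1 hi]),
      ← Finset.sum_attach]
    refine Finset.sum_congr rfl fun i _ => ?_
    simp [w, i.2, mul_comm]
  have h1 : (MvPolynomial.aeval (fun i => (X : Polynomial R) ^ w i) F).coeff (∑ i ∈ d.support, w i * d i) = F.coeff d := by
    rw [MvPolynomial.aeval_def, MvPolynomial.eval₂_eq, finsetSum_coeff, Finset.sum_eq_single d]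
    · simp [← pow_mul, Finset.prod_pow_eq_pow_sum]
    · intro d' hd' hne
      simp only [← pow_mul, Finset.prod_pow_eq_pow_sum, Polynomial.algebraMap_eq, coeff_C_mul_X_pow]
      refine if_neg fun he => hne ?_
      rw [hw d hd, hw d' hd'] at he
      have he' := finFunctionFinEquiv.injective (Fin.ext he)
      ext i
      by_cases hi : i ∈ F.vars
      · have := congrFun he' (e ⟨i, hi⟩)
        simp at this
        exact this.symm
      · rw [Finsupp.notMem_support_iff.1 fun h => hi ((MvPolynomial.mem_vars i).2 ⟨d', hd', h⟩),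
          Finsupp.notMem_support_iff.1 fun h => hi ((MvPolynomial.mem_vars i).2 ⟨d, hd, h⟩)]
    · exact fun h => absurd hd h
  rw [h0, coeff_zero] at h1
  exact MvPolynomial.mem_support_iff.1 hd h1.symm

open Polynomial in
/-- An algebraic element none of whose conjugates is a root. -/
theorem exists_algebraic_avoid (P : Polynomial M) (hP : P ≠ 0) :
    ∃ θ : AlgebraicClosure k, ∀ (N : Type u) [Field N] [Algebra k N] (φ : M →ₐ[k] N)
      (χ : IntermediateField.adjoin k {θ} →ₐ[k] N),
        P.eval₂ φ.toRingHom (χ ⟨θ, IntermediateField.mem_adjoin_simple_self k θ⟩) ≠ 0 := by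
  classical
  let Mb := AlgebraicClosure M
  let bad : Set (AlgebraicClosure k) := ⋃ x ∈ ((P.aroots Mb).toFinset.filter fun x => IsIntegral k x),
    ((minpoly k x).rootSet (AlgebraicClosure k))
  have hbad : bad.Finite := Set.Finite.biUnion (Finset.finite_toSet _) fun x _ => Polynomial.rootSet_finite _ _
  obtain ⟨θ, hθ⟩ := hbad.infinite_compl.nonempty
  refine ⟨θ, fun N _ _ φ χ h0 => hθ ?_⟩
  let N' := AlgebraicClosure N
  let φ' : M →ₐ[k] N' := (IsScalarTower.toAlgHom k N N').comp φ
  letI : Algebra M N' := φ'.toRingHom.toAlgebra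
  haveI : IsScalarTower k M N' := IsScalarTower.of_algebraMap_eq fun a => (φ'.commutes a).symm
  let jM : Mb →ₐ[M] N' := IsAlgClosed.lift
  let j : Mb →ₐ[k] N' := jM.restrictScalars k
  have hint : IsIntegral k θ := Algebra.IsIntegral.isIntegral θ
  let y : N' := algebraMap N N' (χ ⟨θ, IntermediateField.mem_adjoin_simple_self k θ⟩)
  have hy : aeval y (minpoly k θ) = 0 := by
    let χ' : IntermediateField.adjoin k {θ} →ₐ[k] N' := (IsScalarTower.toAlgHom k N N').comp χ
    show aeval (χ' ⟨θ, _⟩) _ = 0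
    rw [Polynomial.aeval_algHom_apply]
    have e : aeval (⟨θ, IntermediateField.mem_adjoin_simple_self k θ⟩ : IntermediateField.adjoin k {θ}) (minpoly k θ) = 0 := by
      apply Subtype.ext
      exact (Polynomial.aeval_algHom_apply (IntermediateField.adjoin k {θ}).val _ _).symm.trans (minpoly.aeval k θ)
    rw [e, map_zero]
  have h1 : y ∈ (minpoly k θ).aroots N' := Polynomial.mem_aroots.2 ⟨minpoly.ne_zero hint, hy⟩
  rw [Polynomial.aroots_def, ← j.comp_algebraMap, ← Polynomial.map_map,
    Polynomial.Splits.roots_map (IsAlgClosed.splits _), Multiset.mem_map] at h1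
  obtain ⟨x, hx, hxy⟩ := h1
  obtain ⟨-, hx'⟩ := Polynomial.mem_aroots.1 hx
  have hmin : minpoly k x = minpoly k θ := (minpoly.eq_of_irreducible_of_monic (minpoly.irreducible hint) hx' (minpoly.monic hint)).symm
  have hPx : aeval x P = 0 := jM.toRingHom.injective (by
    show jM (aeval x P) = jM 0
    rw [map_zero, ← Polynomial.aeval_algHom_apply, show jM x = y from hxy, Polynomial.aeval_def]
    show P.eval₂ ((algebraMap N N').comp φ.toRingHom) (algebraMap N N' _) = 0
    rw [← Polynomial.hom_eval₂, h0, map_zero])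
  refine Set.mem_biUnion (x := x) (Finset.mem_coe.2 (Finset.mem_filter.2
    ⟨Multiset.mem_toFinset.2 (Polynomial.mem_aroots.2 ⟨hP, hPx⟩), minpoly k θ, minpoly.monic hint, hx'⟩)) ?_
  rw [Polynomial.mem_rootSet, hmin]
  exact ⟨minpoly.ne_zero hint, minpoly.aeval k θ⟩

/-- A schematic base change to a rational function field descends, quasi-compact case. -/
theorem mem_schemeLocus_of_purelyTranscendental {ι : Type u} {O : Sp (B k)} (hO : IsAlgSpace O)
    (hqc : IsQuasiCompactSp O) (hqs : IsQuasiSeparatedSp O)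
    (h : IsRepSh (O ⨯ (yon (B k)).obj (Ext k (FractionRing (MvPolynomial ι k))))) (x : Points O) :
    x ∈ schemeLocus O := by
  classical
  let R₀ := MvPolynomial ι k
  let K := FractionRing R₀
  obtain ⟨T, ⟨e⟩⟩ := h
  obtain ⟨z, hz⟩ := surjective_fst (K := K) O x
  have he : Function.Surjective (Points.ofPt e.hom) :=
    surjective_ofPt (MorphismProperty.RespectsIso.postcomp (P := RepWith (@Surjective : MorphismProperty Scheme.{u}))
      e.hom (𝟙 _) (repWith_id _ T))
  obtain ⟨t, rfl⟩ := he z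
  obtain ⟨V₀, hV₀, htV₀, -⟩ := exists_isAffineOpen_mem_and_subset (X := T.left) (U := ⊤) (x := t) trivial
  let V : Over (B k) := Over.mk (V₀.ι ≫ T.hom)
  haveI : IsAffine V.left := hV₀
  let o : V ⟶ T := Over.homMk V₀.ι rfl
  let j := (yon (B k)).map o ≫ e.hom
  have hj : RepWith @IsOpenImmersion j := MorphismProperty.RespectsIso.postcomp _ _ _
    ((repWith_yon_map_iff (@IsOpenImmersion : MorphismProperty Scheme.{u}) o).2 (inferInstanceAs (IsOpenImmersion V₀.ι)))
  obtain ⟨A, V', hV', a, ha, hza⟩ := exists_stage_affine (L := k) (M := K) hO hqc hqs V j hj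
    (Points.ofPt e.hom t) (by rw [← range_ofPt]; exact ⟨⟨t, htV₀⟩, ofPt_yon_comp _ _ _⟩)
  haveI := hV'
  -- the stage lies in a principal localization
  obtain ⟨S, hS⟩ := A.2
  choose nd hnd using fun g : K => IsLocalization.surj (nonZeroDivisors R₀) g
  let h₀ : R₀ := ∏ g ∈ S, (nd g).2.1
  have hh₀ : h₀ ≠ 0 := Finset.prod_ne_zero_iff.2 fun g _ => nonZeroDivisors.ne_zero (nd g).2.2
  let R₁ := Localization.Away h₀
  have hle : Submonoid.powers h₀ ≤ nonZeroDivisors R₀ := powers_le_nonZeroDivisors_of_noZeroDivisors hh₀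
  have hu₁ : IsUnit (algebraMap R₀ K h₀) := IsLocalization.map_units K (⟨h₀, mem_nonZeroDivisors_of_ne_zero hh₀⟩ : nonZeroDivisors R₀)
  let l₁ : R₁ →ₐ[k] K :=
    { (IsLocalization.Away.lift (S := R₁) h₀ hu₁ : R₁ →+* K) with
      commutes' := fun c => by
        show IsLocalization.Away.lift (S := R₁) h₀ hu₁ (algebraMap k R₁ c) = _
        rw [IsScalarTower.algebraMap_apply k R₀ R₁, IsLocalization.Away.lift_eq, ← IsScalarTower.algebraMap_apply] }
  have hl₁ : Function.Injective l₁ := by
    intro p q hpq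
    obtain ⟨n₁, p₁, hp⟩ := IsLocalization.Away.surj h₀ p
    obtain ⟨n₂, q₁, hq⟩ := IsLocalization.Away.surj h₀ q
    have hl : ∀ r, l₁ (algebraMap R₀ R₁ r) = algebraMap R₀ K r := fun r => IsLocalization.Away.lift_eq h₀ hu₁ r
    have hU : IsUnit (algebraMap R₀ R₁ h₀) := IsLocalization.Away.algebraMap_isUnit h₀
    have h1 : algebraMap R₀ R₁ (p₁ * h₀ ^ n₂) = algebraMap R₀ R₁ (q₁ * h₀ ^ n₁) := by
      congr 1
      apply IsFractionRing.injective R₀ K
      have ep : l₁ p * algebraMap R₀ K h₀ ^ n₁ = algebraMap R₀ K p₁ := by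
        rw [← hl, ← hl, ← map_pow, ← map_mul]
        exact congrArg l₁ hp
      have eq' : l₁ q * algebraMap R₀ K h₀ ^ n₂ = algebraMap R₀ K q₁ := by
        rw [← hl, ← hl, ← map_pow, ← map_mul]
        exact congrArg l₁ hq
      rw [map_mul, map_mul, map_pow, map_pow, ← ep, ← eq', hpq]
      ring
    rw [map_mul, map_mul, ← hp, ← hq, map_pow, map_pow, mul_assoc, mul_assoc, ← pow_add, ← pow_add, add_comm n₂] at h1
    exact (hU.pow _).mul_left_inj.1 h1
  have hA : A.1 ≤ l₁.range := by
    rw [← hS]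
    refine Algebra.adjoin_le fun g hg => ?_
    obtain ⟨c, hc⟩ := Finset.dvd_prod_of_mem (fun g => (nd g).2.1) (Finset.mem_coe.1 hg)
    refine ⟨IsLocalization.mk' R₁ ((nd g).1 * c) (⟨h₀, 1, pow_one _⟩ : Submonoid.powers h₀), hu₁.mul_left_inj.1 ?_⟩
    have hl : ∀ r, l₁ (algebraMap R₀ R₁ r) = algebraMap R₀ K r := fun r => IsLocalization.Away.lift_eq h₀ hu₁ r
    rw [← hl h₀]
    show l₁ _ * _ = _
    rw [← map_mul]
    erw [IsLocalization.mk'_spec]
    rw [hl, hl, map_mul, ← hnd g, show h₀ = (nd g).2.1 * c from hc, map_mul]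
    ring
  let incl : A.1 →ₐ[k] R₁ :=
    ((AlgEquiv.ofInjective l₁ hl₁).symm.toAlgHom).comp (Subalgebra.inclusion hA)
  have hincl : Function.Injective incl :=
    (AlgEquiv.ofInjective l₁ hl₁).symm.injective.comp (Subalgebra.inclusion_injective hA)
  -- the trace of the open on the fibre
  obtain ⟨M, _, _, p, hp⟩ := exists_field_point x
  let N := SpA k A.1
  haveI : IsAffine N.left := inferInstanceAs (IsAffine (Spec (CommRingCat.of A.1)))
  let Z := Ext k M ⨯ N
  let ρ : (yon (B k)).obj Z ⟶ O ⨯ (yon (B k)).obj N := prodChart p (𝟙 _)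
  obtain ⟨w, -, hw⟩ := exists_point_isPullback (isPullback_prod_left_map (Y := (yon (B k)).obj N) p) (pt k M)
    (Points.map (prod.map (𝟙 O) ((yon (B k)).map (spaHom (A.1.val.restrictScalars k)))) (Points.ofPt e.hom t))
    (hp.trans (by rw [← Points.map_comp, prod.map_fst, Category.comp_id]; exact hz.symm))
  let eZ : Z.left ≅ Spec (CommRingCat.of (M ⊗[k] A.1)) :=
    (isPullback_prod_left (Ext k M) N).isoPullback ≪≫ pullbackSpecIso k M A.1
  let Q : Set (Spec (CommRingCat.of (M ⊗[k] A.1))) :=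
    eZ.inv ⁻¹' (Points.schemeHomeo Z ⁻¹' (Points.map ρ ⁻¹' Set.range (Points.map a)))
  have hQ : IsOpen Q := ((((AlgSpLib.isOpenMap_map_of_isEtaleMor (IsAlgSpace.yon_obj _)
    (AlgSpLib.isEtaleMor_of_openImmersion ha)).isOpen_range.preimage (Points.continuous_map ρ)).preimage
      (Points.schemeHomeo Z).continuous).preimage eZ.inv.continuous)
  obtain ⟨ζ, hζ⟩ := (Points.schemeHomeo Z).surjective (Points.map (PreservesLimitPair.iso (yon (B k)) (Ext k M) N).inv w)
  have hQne : eZ.hom ζ ∈ Q := by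
    refine (?_ : Points.map ρ (Points.schemeHomeo Z (eZ.inv (eZ.hom ζ))) ∈ Set.range (Points.map a))
    rw [← Scheme.Hom.comp_apply, eZ.hom_inv_id]
    show Points.map ρ (Points.schemeHomeo Z ζ) ∈ _
    rw [hζ, ← Points.map_comp]
    show Points.map ((PreservesLimitPair.iso (yon (B k)) _ _).inv ≫ (PreservesLimitPair.iso (yon (B k)) _ _).hom ≫
      prod.map p (𝟙 _)) w ∈ _
    rw [Iso.inv_hom_id_assoc, hw]
    exact hza
  obtain ⟨_, ⟨f, rfl⟩, hfζ, hfQ⟩ := PrimeSpectrum.isTopologicalBasis_basic_opens.exists_subset_of_mem_open hQne hQ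
  -- clear denominators
  let R₂ := M ⊗[k] R₁
  let f₁ : R₂ := Algebra.TensorProduct.map (AlgHom.id k M) incl f
  have hf₁ : f₁ ≠ 0 := fun h => by
    have hinj : Function.Injective (Algebra.TensorProduct.map (AlgHom.id k M) incl) :=
      Module.Flat.lTensor_preserves_injective_linearMap (M := M) incl.toLinearMap hincl
    have : f = 0 := hinj (h.trans (map_zero _).symm)
    exact hfζ (by rw [this]; exact Ideal.zero_mem _)
  let tl : M ⊗[k] R₀ →ₐ[k] R₂ := Algebra.TensorProduct.map (AlgHom.id k M) (IsScalarTower.toAlgHom k R₀ R₁)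
  obtain ⟨n, f₂, hf₂⟩ : ∃ (n : ℕ) (f₂ : M ⊗[k] R₀), f₁ * tl ((1 : M) ⊗ₜ h₀) ^ n = tl f₂ := by
    suffices ∀ v : R₂, ∃ (n : ℕ) (f₂ : M ⊗[k] R₀), v * tl ((1 : M) ⊗ₜ h₀) ^ n = tl f₂ from this f₁
    intro v
    induction v using TensorProduct.induction_on with
    | zero => exact ⟨0, 0, by simp⟩
    | tmul m r =>
      obtain ⟨n, r₀, hr⟩ := IsLocalization.Away.surj h₀ r
      refine ⟨n, m ⊗ₜ r₀, ?_⟩
      show m ⊗ₜ[k] r * ((1 : M) ⊗ₜ[k] algebraMap R₀ R₁ h₀) ^ n = m ⊗ₜ[k] algebraMap R₀ R₁ r₀
      rw [Algebra.TensorProduct.tmul_pow, Algebra.TensorProduct.tmul_mul_tmul, one_pow, mul_one, hr]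
    | add u v hu hv =>
      obtain ⟨n, r, hr⟩ := hu
      obtain ⟨n', r', hr'⟩ := hv
      refine ⟨n + n', r * ((1 : M) ⊗ₜ h₀) ^ n' + r' * ((1 : M) ⊗ₜ h₀) ^ n, ?_⟩
      rw [map_add, map_mul, map_mul, map_pow, map_pow, ← hr, ← hr']
      ring
  have hf₂' : f₂ ≠ 0 := fun h => by
    have hU : IsUnit (tl ((1 : M) ⊗ₜ h₀)) := by
      show IsUnit ((1 : M) ⊗ₜ[k] algebraMap R₀ R₁ h₀)
      exact (IsLocalization.Away.algebraMap_isUnit (S := R₁) h₀).map
        (Algebra.TensorProduct.includeRight : R₁ →ₐ[k] M ⊗[k] R₁)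
    rw [h, map_zero] at hf₂
    exact hf₁ ((hU.pow n).mul_left_eq_zero.1 hf₂)
  let F : MvPolynomial ι M := MvPolynomial.algebraTensorAlgEquiv k M f₂
  let hM : MvPolynomial ι M := MvPolynomial.map (algebraMap k M) h₀
  have hFh : F * hM ≠ 0 := mul_ne_zero
    (fun h => hf₂' ((MvPolynomial.algebraTensorAlgEquiv k M).injective (h.trans (map_zero _).symm)))
    (fun h => hh₀ (MvPolynomial.map_injective _ (algebraMap k M).injective (h.trans (map_zero _).symm)))
  obtain ⟨wt, hwt⟩ := exists_weight hFh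
  obtain ⟨θ, hθ⟩ := exists_algebraic_avoid (k := k) _ hwt
  let k' := IntermediateField.adjoin k {θ}
  haveI : FiniteDimensional k k' := IntermediateField.adjoin.finiteDimensional (Algebra.IsIntegral.isIntegral θ)
  let θ' : k' := ⟨θ, IntermediateField.mem_adjoin_simple_self k θ⟩
  let ev : R₀ →ₐ[k] k' := MvPolynomial.aeval fun i => θ' ^ wt i
  have hev : ∀ (N₁ : Type u) [Field N₁] [Algebra k N₁] (φ : M →ₐ[k] N₁) (χ : k' →ₐ[k] N₁),
      MvPolynomial.eval₂ φ.toRingHom (fun i => χ θ' ^ wt i) F ≠ 0 ∧ χ (ev h₀) ≠ 0 := fun N₁ _ _ φ χ => by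
    have h1 := hθ N₁ φ χ
    have e : ∀ G : MvPolynomial ι M, Polynomial.eval₂ φ.toRingHom (χ θ') (MvPolynomial.aeval (fun i => (Polynomial.X : Polynomial M) ^ wt i) G) =
        MvPolynomial.eval₂ φ.toRingHom (fun i => χ θ' ^ wt i) G := fun G => by
      have : (Polynomial.eval₂RingHom φ.toRingHom (χ θ')).comp (MvPolynomial.aeval (fun i => (Polynomial.X : Polynomial M) ^ wt i)).toRingHom =
          MvPolynomial.eval₂Hom φ.toRingHom (fun i => χ θ' ^ wt i) :=
        MvPolynomial.ringHom_ext (fun c => by simp) (fun i => by simp)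
      exact RingHom.congr_fun this G
    rw [e, MvPolynomial.eval₂_mul] at h1
    obtain ⟨h2, h3⟩ := mul_ne_zero_iff.1 h1
    refine ⟨h2, fun h => h3 ?_⟩
    rw [MvPolynomial.eval₂_map]
    erw [φ.comp_algebraMap]
    rw [← h]
    have : (MvPolynomial.eval₂Hom (algebraMap k N₁) (fun i => χ θ' ^ wt i)) = (χ.comp ev).toRingHom :=
      MvPolynomial.ringHom_ext (fun c => by simp [ev]) (fun i => by simp [ev])
    exact RingHom.congr_fun this h₀
  have hh' : IsUnit (ev h₀) := by
    obtain ⟨N₂, _, _, ⟨φ₂⟩, ⟨χ₂⟩⟩ := exists_common_field (k := k) M k'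
    exact isUnit_iff_ne_zero.2 fun h => (hev N₂ φ₂ χ₂).2 (by rw [h, map_zero])
  let ev₁ : R₁ →ₐ[k] k' :=
    { (IsLocalization.Away.lift (S := R₁) h₀ hh' : R₁ →+* k') with
      commutes' := fun c => by
        show IsLocalization.Away.lift (S := R₁) h₀ hh' (algebraMap k R₁ c) = _
        rw [IsScalarTower.algebraMap_apply k R₀ R₁, IsLocalization.Away.lift_eq]
        exact ev.commutes c }
  let σ : A.1 →ₐ[k] k' := ev₁.comp incl
  let g : Ext k k' ⟶ N := spaHom σ
  have hh := repWith_bcMap_affine O g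
  have hW := hh.rep.isPullback a
  haveI : IsAffineHom (hh.rep.snd a).left := (repWith_yon_map_iff _ _).1 (repWith_of_isPullback hW hh)
  haveI : IsAffine (hh.rep.pullback a).left := isAffine_of_isAffineHom (hh.rep.snd a).left
  refine mem_schemeLocus_of_finLocFree (isAlgSpace_of_representable hO prod.fst (representable_fst O (Ext k k'))) hO
    (isFinLocFreeMor_fst O) (repWith_surjective_fst O) (AlgSpLib.repWith_of_isPullback hW.flip ha) x fun y hy => ?_
  -- every lift lies in the open
  obtain ⟨w', -, hw'⟩ := exists_point_isPullback (isPullback_prod_left_map (Y := (yon (B k)).obj (Ext k k')) p)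
    (pt k M) y (hp.trans hy.symm)
  obtain ⟨N₁, _, _, q, hq⟩ := exists_field_point w'
  obtain ⟨qφ, hqφ⟩ := (yon (B k)).map_surjective (q ≫ prod.fst)
  obtain ⟨qχ, hqχ⟩ := (yon (B k)).map_surjective (q ≫ prod.snd)
  let qa : Spec (CommRingCat.of N₁) ⟶ Spec (CommRingCat.of M) := qφ.left
  let qb : Spec (CommRingCat.of N₁) ⟶ Spec (CommRingCat.of k') := qχ.left
  have halg : ∀ {C : Type u} [CommRing C] [Algebra k C] (q₀ : Ext k N₁ ⟶ SpA k C),
      ∃ φ : C →ₐ[k] N₁, spaHom φ = q₀ := fun {C} _ _ q₀ => by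
    let q₁ : Spec (CommRingCat.of N₁) ⟶ Spec (CommRingCat.of C) := q₀.left
    refine ⟨{ (Spec.preimage q₁).hom with
      commutes' := fun c => ?_ }, Over.OverMorphism.ext (Spec.map_preimage q₁)⟩
    refine RingHom.congr_fun (congrArg CommRingCat.Hom.hom (Spec.map_injective (?_ :
      Spec.map (CommRingCat.ofHom (algebraMap k C) ≫ Spec.preimage q₁) =
        Spec.map (CommRingCat.ofHom (algebraMap k N₁))))) c
    rw [Spec.map_comp, Spec.map_preimage]
    exact Over.w q₀
  obtain ⟨φ, hφ⟩ := halg qφ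
  obtain ⟨χ, hχ⟩ := halg qχ
  obtain ⟨hF, hh₁⟩ := hev N₁ φ χ
  let π : M ⊗[k] A.1 →ₐ[k] N₁ := Algebra.TensorProduct.lift φ (χ.comp σ) fun _ _ => .all _ _
  have hπf : π f ≠ 0 := by
    let π₁ : R₂ →ₐ[k] N₁ := Algebra.TensorProduct.lift φ (χ.comp ev₁) fun _ _ => .all _ _
    let π₀ : M ⊗[k] R₀ →ₐ[k] N₁ := Algebra.TensorProduct.lift φ (χ.comp ev) fun _ _ => .all _ _
    have e1 : π₁.comp (Algebra.TensorProduct.map (AlgHom.id k M) incl) = π := by
      apply Algebra.TensorProduct.ext'
      intro m r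
      show φ m * χ (ev₁ (incl r)) = φ m * χ (ev₁ (incl r))
      rfl
    have e2 : π₁.comp tl = π₀ := by
      apply Algebra.TensorProduct.ext'
      intro m r
      show φ m * χ (IsLocalization.Away.lift (S := R₁) h₀ hh' (algebraMap R₀ R₁ r)) = φ m * χ (ev r)
      rw [IsLocalization.Away.lift_eq]
      rfl
    have e3 : π₀ f₂ = MvPolynomial.eval₂ φ.toRingHom (fun i => χ θ' ^ wt i) F := by
      show π₀ f₂ = (MvPolynomial.eval₂Hom φ.toRingHom fun i => χ θ' ^ wt i) (MvPolynomial.algebraTensorAlgEquiv k M f₂)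
      suffices ∀ v : M ⊗[k] R₀, π₀ v = (MvPolynomial.eval₂Hom φ.toRingHom fun i => χ θ' ^ wt i)
          (MvPolynomial.algebraTensorAlgEquiv k M v) from this f₂
      intro v
      induction v using TensorProduct.induction_on with
      | zero => simp
      | tmul m r =>
        rw [MvPolynomial.algebraTensorAlgEquiv_tmul, MvPolynomial.smul_eq_C_mul, map_mul, MvPolynomial.eval₂Hom_C]
        simp only [π₀, Algebra.TensorProduct.lift_tmul, AlgHom.comp_apply]
        congr 1
        rw [MvPolynomial.coe_eval₂Hom, MvPolynomial.eval₂_map]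
        erw [φ.comp_algebraMap]
        have : (χ.comp ev).toRingHom = MvPolynomial.eval₂Hom (algebraMap k N₁) (fun i => χ θ' ^ wt i) :=
          MvPolynomial.ringHom_ext (fun c => by simp [ev]) (fun i => by simp [ev])
        exact RingHom.congr_fun this r
      | add u v hu hv => rw [map_add, map_add, map_add, hu, hv]
    intro h0
    apply hF
    rw [← e3, ← DFunLike.congr_fun e2 f₂, AlgHom.comp_apply, ← hf₂, map_mul,
      show π₁ f₁ = π f from DFunLike.congr_fun e1 f, h0, zero_mul]
  -- conclude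
  let qZ : Ext k N₁ ⟶ Z := prod.lift qφ (qχ ≫ g)
  have hqZ : qZ.left ≫ eZ.hom = Spec.map (CommRingCat.ofHom π.toRingHom) := by
    rw [← Iso.eq_comp_inv]
    refine (isPullback_prod_left (Ext k M) N).hom_ext ?_ ?_ <;>
      simp only [eZ, Iso.trans_inv, Category.assoc, IsPullback.isoPullback_inv_fst, IsPullback.isoPullback_inv_snd]
    · rw [← Over.comp_left, prod.lift_fst, ← hφ]
      erw [pullbackSpecIso_inv_fst]
      show Spec.map _ = Spec.map _ ≫ Spec.map _
      rw [← Spec.map_comp, ← CommRingCat.ofHom_comp]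
      congr 2
      ext m
      simp [π]
    · rw [← Over.comp_left, prod.lift_snd, ← hχ]
      erw [pullbackSpecIso_inv_snd]
      show Spec.map _ ≫ Spec.map _ = Spec.map _ ≫ Spec.map _
      rw [← Spec.map_comp, ← Spec.map_comp, ← CommRingCat.ofHom_comp, ← CommRingCat.ofHom_comp]
      congr 2
      ext r
      simp [π]
  have hmem : eZ.hom (qZ.left default) ∈ Q := hfQ (by
    rw [← Scheme.Hom.comp_apply, hqZ]
    show π f ∉ (default : PrimeSpectrum N₁).asIdeal
    rw [((Ideal.eq_bot_or_top _).resolve_right (Ideal.IsPrime.ne_top inferInstance) : (default : PrimeSpectrum N₁).asIdeal = ⊥),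
      Ideal.mem_bot]
    exact hπf)
  have hy' : Points.map (prod.map (𝟙 O) ((yon (B k)).map g)) y ∈ Set.range (Points.map a) := by
    have e1 : (yon (B k)).map qZ ≫ ρ = q ≫ prod.map p ((yon (B k)).map g) := by
      apply Limits.prod.hom_ext
      · rw [Category.assoc, prodChart_fst, ← Functor.map_comp_assoc, prod.lift_fst, hqφ]
        simp
      · rw [Category.assoc, prodChart_snd, Category.comp_id, ← Functor.map_comp, prod.lift_snd, Functor.map_comp, hqχ]
        simp
    have h2 : Points.map ρ (Points.schemeHomeo Z (eZ.inv (eZ.hom (qZ.left default)))) ∈ Set.range (Points.map a) := hmem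
    rw [← Scheme.Hom.comp_apply eZ.hom eZ.inv, eZ.hom_inv_id] at h2
    change Points.map ρ (Points.schemeHomeo Z (qZ.left default)) ∈ _ at h2
    rw [← Points.map_yon_map_apply, ← Points.map_comp, e1, Points.map_comp] at h2
    rw [← hw', ← hq, ← Points.map_comp, prod.map_map, Category.comp_id, Category.id_comp]
    exact h2
  obtain ⟨b, hb⟩ := hy'
  obtain ⟨b', hb', -⟩ := exists_point_isPullback hW y b hb.symm
  rw [range_ofPt]
  exact ⟨b', hb'⟩

end AlgSpFieldLib
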